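import Mathlib
import Groth.Agent.RatSing.Modification

/-!
# Centres of valuations on models
-/

set_option autoImplicit false
set_option linter.style.haveILetI false
set_option linter.unusedSectionVars false
set_option backward.isDefEq.respectTransparency false
set_option backward.isDefEq.respectTransparency.types false
set_option maxHeartbeats 400000

universe u

open CategoryTheory CategoryTheory.Limits AlgebraicGeometry TopologicalSpace IsLocalRing
open Groth.Agent.FibrePP (O)
open Groth.Agent.NormSeq (Model locRing)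
open Groth.Agent.Sol

noncomputable section

namespace Groth.Agent.RatUp

variable {R : CommRingCat.{u}} [IsDomain R] (M : Model (Spec R))

local notation "ι" => algebraMap R (Scheme.functionField (Spec R))

/-- The point is the centre of the valuation ring. -/
def Ctr (V : ValuationSubring (Spec R).functionField) (w : M.Z) : Prop :=
  locRing M w ≤ V.toSubring ∧ ∀ c ∈ locRing M w, c⁻¹ ∈ V → c⁻¹ ∈ locRing M w

/-- One of the element and its inverse is in every local ring. -/
def Dec (e : (Spec R).functionField) : Prop := ∀ w, e ∈ locRing M w ∨ e⁻¹ ∈ locRing M w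

variable {M}

theorem Ctr.mem {V : ValuationSubring (Spec R).functionField} {w : M.Z} (h : Ctr M V w)
    {e : (Spec R).functionField} (hd : Dec M e) (he : e ∈ V) : e ∈ locRing M w := by
  rcases hd w with h1 | h1
  · exact h1
  · have h2 := h.2 _ h1 (by rwa [inv_inv])
    rwa [inv_inv] at h2

theorem Ctr.map_mem {V : ValuationSubring (Spec R).functionField} {w : M.Z} (h : Ctr M V w) (a : R) : ι a ∈ V :=
  h.1 (RatSing.map_mem_locRing M w a)

variable (M)

theorem exists_ctr [IsProper M.G] (V : ValuationSubring (Spec R).functionField) (hV : ∀ a, ι a ∈ V) :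
    ∃ w, Ctr M V w := by
  obtain ⟨w, h1, h2⟩ := RatSing.exists_centre M V hV
  exact ⟨w, h1, h2⟩

/-- Every point is the centre of some valuation ring. -/
theorem exists_valuation (w : M.Z) : ∃ V, Ctr M V w := by
  haveI : IsLocalRing (locRing M w) := IsLocalRing.of_surjective' (M.toKHom w).hom.rangeRestrict
    (M.toKHom w).hom.rangeRestrict_surjective
  let L : LocalSubring (Spec R).functionField := LocalSubring.mk (locRing M w)
  obtain ⟨V, hV⟩ := L.exists_le_valuationSubring
  obtain ⟨hle, hloc⟩ := hV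
  haveI := hloc
  refine ⟨V, hle, fun c hc hinv => ?_⟩
  by_cases h0 : c = 0
  · rw [h0, inv_zero]; exact zero_mem _
  have hu : IsUnit ((Subring.inclusion hle) (⟨c, hc⟩ : locRing M w)) :=
    IsUnit.of_mul_eq_one (⟨c⁻¹, hinv⟩ : V.toSubring) (Subtype.ext (mul_inv_cancel₀ h0))
  obtain ⟨u, hu'⟩ := (hu.of_map (Subring.inclusion hle) _).exists_right_inv
  rw [show c⁻¹ = u.1 from (eq_inv_of_mul_eq_one_right (congrArg Subtype.val hu')).symm]
  exact u.2

/-- A normal point is cut out by the valuation rings containing it. -/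
theorem mem_locRing_of_forall (w : M.Z) (hn : IsIntegrallyClosed (M.Z.presheaf.stalk w))
    (c : (Spec R).functionField)
    (h : ∀ V : ValuationSubring (Spec R).functionField, locRing M w ≤ V.toSubring → c ∈ V) : c ∈ locRing M w := by
  by_contra hc
  haveI : IsIntegrallyClosedIn (locRing M w) (Spec R).functionField := by
    rw [Subring.isIntegrallyClosedIn_iff]
    intro x hx
    exact NormSeq.isIntegrallyClosed_range M w hn hx
  obtain ⟨V, hV, hcV⟩ := Subring.exists_le_valuationSubring_of_isIntegrallyClosedIn hc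
  exact hcV (h V hV)

theorem locRing_mono {z z' : M.Z} (h : z' ⤳ z) : locRing M z ≤ locRing M z' := by
  rintro c ⟨a, rfl⟩
  refine ⟨M.Z.presheaf.stalkSpecializes h a, ?_⟩
  show (M.Z.presheaf.stalkSpecializes h ≫ M.toKHom z') a = M.toKHom z a
  rw [Model.toKHom, ← Category.assoc, TopCat.Presheaf.stalkSpecializes_comp]
  rfl

theorem isOpen_mem (e : (Spec R).functionField) : IsOpen {w | e ∈ locRing M w} :=
  isOpen_iff_eventually.2 fun w hw => openMem_locRing M w e hw

/-- The point of a valuation ring mapped to a model. -/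
theorem ctr_of_lift (V : ValuationSubring (Spec R).functionField) (l : Spec (CommRingCat.of V) ⟶ M.Z)
    (hl : Spec.map (CommRingCat.ofHom V.subtype) ≫ l = M.genHom) :
    Ctr M V (l (closedPoint (CommRingCat.of V))) := by
  let j : CommRingCat.of V ⟶ (Spec R).functionField := CommRingCat.ofHom V.subtype
  let x := l (closedPoint (CommRingCat.of V))
  have hkey : Scheme.stalkClosedPointTo l ≫ j = M.toKHom x := by
    apply Spec.map_injective
    rw [← cancel_mono (M.Z.fromSpecStalk x), Spec.map_comp, Category.assoc,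
      Scheme.Spec_stalkClosedPointTo_fromSpecStalk, hl, M.spec_toK]
  have hval : ∀ a, M.toKHom x a = (Scheme.stalkClosedPointTo l a : V) := fun a => (congr($hkey a)).symm
  refine ⟨?_, ?_⟩
  · rintro c ⟨a, rfl⟩
    rw [hval]
    exact (Scheme.stalkClosedPointTo l a : V).2
  · rintro c ⟨a, rfl⟩ hinv
    by_cases h0 : M.toKHom x a = 0
    · rw [h0, inv_zero]; exact zero_mem _
    have hu : IsUnit (Scheme.stalkClosedPointTo l a) := by
      refine IsUnit.of_mul_eq_one (⟨_, hinv⟩ : V) (Subtype.ext ?_)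
      show ((Scheme.stalkClosedPointTo l a : V) : (Spec R).functionField) * (M.toKHom x a)⁻¹ = 1
      rw [← hval, mul_inv_cancel₀ h0]
    obtain ⟨u, hu'⟩ := IsUnit.exists_right_inv (IsUnit.of_map (Scheme.stalkClosedPointTo l).hom a hu)
    exact ⟨u, (eq_inv_of_mul_eq_one_right (by rw [← map_mul, hu', map_one]))⟩

/-- A valuation ring containing a local ring has a centre generalising the point. -/
theorem exists_ctr_specializes {z : M.Z} (V : ValuationSubring (Spec R).functionField)
    (hV : locRing M z ≤ V.toSubring) : ∃ z', z' ⤳ z ∧ Ctr M V z' := by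
  let i : M.Z.presheaf.stalk z ⟶ CommRingCat.of V :=
    CommRingCat.ofHom ((M.toKHom z).hom.codRestrict V.toSubring fun a => hV ⟨a, rfl⟩)
  have hi : i ≫ CommRingCat.ofHom V.subtype = M.toKHom z := rfl
  refine ⟨_, ?_, ctr_of_lift M V (Spec.map i ≫ M.Z.fromSpecStalk z) ?_⟩
  · have h : (Spec.map i ≫ M.Z.fromSpecStalk z) (closedPoint (CommRingCat.of V)) ∈ Set.range (M.Z.fromSpecStalk z) :=
      ⟨_, rfl⟩
    rwa [Scheme.range_fromSpecStalk] at h
  · rw [← Spec.map_comp_assoc, hi, M.spec_toK]

theorem Ctr.exists_lift {V : ValuationSubring (Spec R).functionField} {w : M.Z} (h : Ctr M V w) :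
    ∃ l : Spec (CommRingCat.of V) ⟶ M.Z, Spec.map (CommRingCat.ofHom V.subtype) ≫ l = M.genHom ∧
      l (closedPoint (CommRingCat.of V)) = w := by
  let i : M.Z.presheaf.stalk w ⟶ CommRingCat.of V :=
    CommRingCat.ofHom ((M.toKHom w).hom.codRestrict V.toSubring fun a => h.1 ⟨a, rfl⟩)
  have hi : i ≫ CommRingCat.ofHom V.subtype = M.toKHom w := rfl
  haveI : IsLocalHom i.hom := ⟨fun a ha => by
    obtain ⟨b, hb⟩ := ha.exists_right_inv
    have hb' : M.toKHom w a * (b : (Spec R).functionField) = 1 := congrArg Subtype.val hb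
    obtain ⟨c, hc⟩ := h.2 _ ⟨a, rfl⟩ (by rw [← eq_inv_of_mul_eq_one_right hb']; exact b.2)
    refine IsUnit.of_mul_eq_one c (M.toK_injective w ?_)
    change (M.toKHom w).hom c = _ at hc
    rw [map_mul, map_one]
    erw [hc]
    exact mul_inv_cancel₀ (left_ne_zero_of_mul_eq_one hb')⟩
  refine ⟨Spec.map i ≫ M.Z.fromSpecStalk w, by rw [← Spec.map_comp_assoc, hi, M.spec_toK], ?_⟩
  rw [Scheme.Hom.comp_apply, Spec_closedPoint, Scheme.fromSpecStalk_closedPoint]

/-- Centres on separated models are unique. -/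
theorem Ctr.unique [IsSeparated M.G] {V : ValuationSubring (Spec R).functionField} {w w' : M.Z}
    (h : Ctr M V w) (h' : Ctr M V w') : w = w' := by
  obtain ⟨l, hl, rfl⟩ := Ctr.exists_lift M h
  obtain ⟨l', hl', rfl⟩ := Ctr.exists_lift M h'
  have hjinj : Function.Injective (CommRingCat.ofHom V.subtype).hom := Subtype.val_injective
  have e : l ≫ M.G = l' ≫ M.G := by
    obtain ⟨p, hp⟩ := Spec.map_surjective (l ≫ M.G)
    obtain ⟨p', hp'⟩ := Spec.map_surjective (l' ≫ M.G)
    rw [← hp, ← hp']
    congr 1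
    have h1 : Spec.map (p ≫ CommRingCat.ofHom V.subtype) = Spec.map (p' ≫ CommRingCat.ofHom V.subtype) := by
      rw [Spec.map_comp, Spec.map_comp, hp, hp', ← Category.assoc, ← Category.assoc, hl, hl']
    ext a
    exact congrArg Subtype.val (hjinj congr($(Spec.map_injective h1) a))
  haveI : IsFractionRing V (Spec R).functionField := inferInstance
  let S : ValuativeCommSq M.G :=
    { R := V
      K := (Spec R).functionField
      i₁ := M.genHom
      i₂ := l ≫ M.G
      commSq := ⟨by rw [← hl]; simp; rfl⟩ }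
  have hu : (⟨l, hl, rfl⟩ : S.commSq.LiftStruct) = ⟨l', hl', e.symm⟩ :=
    (IsSeparated.valuativeCriterion M.G S).allEq _ _
  have hl12 : l = l' := congrArg CommSq.LiftStruct.l hu
  rw [hl12]

variable {M}

theorem Ctr.map_hom {X : Model (Spec R)} {Y : Scheme.{u}} [IsIntegral Y] (h : Y ⟶ X.Z)
    (hgen : h (genericPoint Y) = genericPoint X.Z) (hbir : IsIso (h.stalkMap (genericPoint Y)))
    {V : ValuationSubring (Spec R).functionField} {w : (X.comp h hgen hbir).Z}
    (hw : Ctr (X.comp h hgen hbir) V w) : Ctr X V (h w) := by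
  have hval : ∀ a, (X.comp h hgen hbir).toKHom w (h.stalkMap w a) = X.toKHom (h w) a := fun a =>
    congr($(X.comp_toK h hgen hbir w) a)
  refine ⟨?_, ?_⟩
  · rintro c ⟨a, rfl⟩
    exact hw.1 ⟨_, hval a⟩
  · rintro c ⟨a, rfl⟩ hinv
    by_cases h0 : X.toKHom (h w) a = 0
    · rw [h0, inv_zero]; exact zero_mem _
    obtain ⟨b, hb⟩ := hw.2 _ ⟨_, hval a⟩ hinv
    change (X.comp h hgen hbir).toKHom w b = _ at hb
    have hu : IsUnit (h.stalkMap w a) := by
      refine IsUnit.of_mul_eq_one b ((X.comp h hgen hbir).toK_injective w ?_)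
      rw [map_mul, map_one, hval, hb]
      exact mul_inv_cancel₀ h0
    obtain ⟨u, hu'⟩ := (IsUnit.of_map (h.stalkMap w).hom a hu).exists_right_inv
    exact ⟨u, eq_inv_of_mul_eq_one_right (by rw [← map_mul, hu', map_one])⟩

theorem locRing_comp_le {X : Model (Spec R)} {Y : Scheme.{u}} [IsIntegral Y] (h : Y ⟶ X.Z)
    (hgen : h (genericPoint Y) = genericPoint X.Z) (hbir : IsIso (h.stalkMap (genericPoint Y)))
    (w : (X.comp h hgen hbir).Z) : locRing X (h w) ≤ locRing (X.comp h hgen hbir) w := by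
  rintro c ⟨a, rfl⟩
  exact ⟨h.stalkMap w a, congr($(X.comp_toK h hgen hbir w) a)⟩

theorem locRing_comp_eq {X : Model (Spec R)} {Y : Scheme.{u}} [IsIntegral Y] (h : Y ⟶ X.Z)
    (hgen : h (genericPoint Y) = genericPoint X.Z) (hbir : IsIso (h.stalkMap (genericPoint Y)))
    (w : (X.comp h hgen hbir).Z) [IsIso (h.stalkMap w)] :
    locRing (X.comp h hgen hbir) w = locRing X (h w) := by
  refine le_antisymm ?_ (locRing_comp_le h hgen hbir w)
  rintro c ⟨a, rfl⟩
  obtain ⟨b, rfl⟩ := (ConcreteCategory.bijective_of_isIso (h.stalkMap w)).2 a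
  exact ⟨b, (congr($(X.comp_toK h hgen hbir w) b)).symm⟩

theorem Dec.comp {X : Model (Spec R)} {Y : Scheme.{u}} [IsIntegral Y] (h : Y ⟶ X.Z)
    (hgen : h (genericPoint Y) = genericPoint X.Z) (hbir : IsIso (h.stalkMap (genericPoint Y)))
    {e : (Spec R).functionField} (he : Dec X e) : Dec (X.comp h hgen hbir) e := fun w =>
  (he (h w)).imp (fun h1 => locRing_comp_le h hgen hbir w h1) (fun h1 => locRing_comp_le h hgen hbir w h1)

/-- Points of the closure of a locally closed set specialise from the set. -/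
theorem exists_specializes {α : Type u} [TopologicalSpace α] [NoetherianSpace α] [QuasiSober α] {Z O : Set α}
    (hZ : IsClosed Z) (hO : IsOpen O) {w : α} (hw : w ∈ closure (Z ∩ O)) : ∃ ξ ∈ Z ∩ O, ξ ⤳ w := by
  obtain ⟨S, hSf, hSc, hSi, hS⟩ : ∃ S : Set (Set α), S.Finite ∧ (∀ s ∈ S, IsClosed s) ∧
      (∀ s ∈ S, IsIrreducible s) ∧ Z = ⋃₀ S := by
    obtain ⟨S, h1, h2, h3, h4⟩ := NoetherianSpace.exists_finite_set_isClosed_irreducible hZ
    exact ⟨S, h1, h2, h3, h4⟩
  rw [hS, Set.sUnion_eq_biUnion, Set.iUnion₂_inter, hSf.closure_biUnion, Set.mem_iUnion₂] at hw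
  obtain ⟨s, hs, hws⟩ := hw
  obtain ⟨ξ, hξ⟩ := QuasiSober.sober (hSi s hs) (hSc s hs)
  have hne : (s ∩ O).Nonempty := closure_nonempty_iff.1 ⟨w, hws⟩
  refine ⟨ξ, ⟨hS ▸ ⟨s, hs, hξ.mem⟩, (hξ.mem_open_set_iff hO).2 hne⟩, hξ.specializes ?_⟩
  exact (closure_minimal Set.inter_subset_left (hSc s hs)) hws

end Groth.Agent.RatUp
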