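import Mathlib
import Groth.Agent.RatUp.Val
import Groth.Agent.RatSing.Fibre
import Groth.Agent.NormSeq.Main
import Groth.Agent.BlowUpLib.Glue

/-!
# Normalised blow-ups deciding elements
-/

set_option autoImplicit false
set_option linter.style.haveILetI false
set_option linter.unusedSectionVars false
set_option backward.isDefEq.respectTransparency false
set_option backward.isDefEq.respectTransparency.types false
set_option maxHeartbeats 400000

universe u

open CategoryTheory CategoryTheory.Limits AlgebraicGeometry TopologicalSpace IsLocalRing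
open Groth.Agent.NormSeq (Model locRing Nice)
open Groth.Agent.H23.StalkIdeal

noncomputable section

namespace Groth.Agent.RatUp

variable {R : CommRingCat.{u}} [IsDomain R]

local notation "ι" => algebraMap R (Scheme.functionField (Spec R))

/-- The blow-up of a nonzero ideal of the base followed by normalisation. -/
theorem exists_normalised_blowUp (M : Model (Spec R)) (hM : Nice M.Z) (J : Ideal R) (hJ : J ≠ ⊥) :
    ∃ (Z' : Scheme.{u}) (b' : Z' ⟶ M.Z) (Y : Scheme.{u}) (ν : Y ⟶ Z') (_ : IsIntegral Y), IsFinite ν ∧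
      BlowUp.IsBlowUp b' ((BlowUpLib.centre (A := R) J).comap M.G) ∧ Nice Y ∧ IsProper (ν ≫ b') ∧
      IsIso ((ν ≫ b').stalkMap (genericPoint Y)) ∧
      BlowUp.IsEffCartierIdeal ((BlowUpLib.centre (A := R) J).comap ((ν ≫ b') ≫ M.G)) := by
  haveI := hM.noeth
  set C := (BlowUpLib.centre (A := R) J).comap M.G with hC
  obtain ⟨Z', b, hb⟩ := BlowUpLib.exists_blowUp (C := C)
  haveI : IsProper b := BlowUpLib.isProper_of_isBlowUp (C := C) hb fun (U : M.Z.affineOpens) => by
    haveI : IsNoetherianRing Γ(M.Z, U.1) := IsLocallyNoetherian.component_noetherian U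
    exact IsNoetherian.noetherian _
  have hgC : genericPoint M.Z ∉ (C.support : Set M.Z) := fun hmem => by
    rw [hC, Scheme.IdealSheafData.support_comap] at hmem
    have h1 : M.G (genericPoint M.Z) ∈ ((BlowUpLib.centre (A := R) J).support : Set (Spec R)) := hmem
    rw [M.gen] at h1
    refine hJ (eq_bot_iff.2 fun a ha => ?_)
    rw [show ((BlowUpLib.centre (A := R) J).support : Set (Spec R)) = _ from
      Scheme.IdealSheafData.coe_support_ofIdealTop _, Spec_zeroLocus] at h1
    have h2 : a ∈ (genericPoint (Spec R)).asIdeal :=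
      (PrimeSpectrum.mem_zeroLocus _ _).1 h1 (Ideal.mem_map_of_mem _ ha)
    rw [genericPoint_eq_bot_of_affine] at h2
    exact h2
  let U₀ : M.Z.Opens := ⟨(C.support : Set M.Z)ᶜ, C.support.isClosed.isOpen_compl⟩
  haveI := BlowUpLib.isIso_restrict hb U₀ fun z hz => hz
  obtain ⟨hint, -, hbiso⟩ :
      ∃ _ : IsIntegral Z', b (genericPoint Z') = genericPoint M.Z ∧ IsIso (b.stalkMap (genericPoint Z')) :=
    (Lib.BlowUpInt.isEmpty_or_birational hb).resolve_left fun hE =>
      hE.false ((inv (b ∣_ U₀)) ⟨genericPoint M.Z, hgC⟩).1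
  haveI := hint
  haveI : IsLocallyNoetherian Z' := LocallyOfFiniteType.isLocallyNoetherian b
  haveI : IsFinite (Curv2.normalizationι Z') := hM.fin Z' b hbiso
  haveI hint₁ : IsIntegral (Curv2.normalization Z') :=
    inferInstanceAs (IsIntegral (Z'.fromSpecStalk (genericPoint Z')).normalization)
  let ν := Curv2.normalizationι Z'
  obtain ⟨V, hV, hiso⟩ := BMLib.exists_isIso_normalizationι Z'
  haveI := hiso
  haveI : IsOpenImmersion ((ν ⁻¹ᵁ V).ι ≫ ν) := by
    rw [← morphismRestrict_ι]; infer_instance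
  have hW : ((ν ⁻¹ᵁ V) : Set ↥(Curv2.normalization Z')).Nonempty := by
    obtain ⟨v, hv⟩ := hV
    exact ⟨(inv (ν ∣_ V) ⟨v, hv⟩).1, (inv (ν ∣_ V) ⟨v, hv⟩).2⟩
  have hν : IsIso (ν.stalkMap (genericPoint (Curv2.normalization Z'))) :=
    PurBir.isIso_stalkMap_of_mem ν (PurBir.genericPoint_mem hW)
  haveI : IsLocallyNoetherian (Curv2.normalization Z') := LocallyOfFiniteType.isLocallyNoetherian (ν ≫ b)
  haveI : CompactSpace (Curv2.normalization Z') := QuasiCompact.compactSpace_of_compactSpace (ν ≫ b)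
  have hgen : IsIso ((ν ≫ b).stalkMap (genericPoint (Curv2.normalization Z'))) := by
    rw [Scheme.Hom.stalkMap_comp]
    haveI := hν
    haveI : IsIso (b.stalkMap (ν (genericPoint (Curv2.normalization Z')))) := by
      rw [SurfSeq.map_generic ν hν]; exact hbiso
    infer_instance
  refine ⟨Z', b, Curv2.normalization Z', ν, hint₁, inferInstance, hb,
    ⟨hint₁, {}, NormCurve.isNormalScheme_normalization Z', hM.fin_comp (ν ≫ b) hgen, fun w => ?_⟩, inferInstance,
      hgen, ?_⟩
  · exact (NormSeq.dim_le (ν ≫ b) hgen w).trans (hM.dim _)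
  · rw [Category.assoc, Scheme.IdealSheafData.comap_comp, Scheme.IdealSheafData.comap_comp]
    exact NormSeq.isEffCartier_comap ν hν hb.1

/-- An invertible pair of elements decides their quotient. -/
theorem dec_of_isEffCartier (M : Model (Spec R)) {a b : R} (hb : b ≠ 0)
    (hE : BlowUp.IsEffCartierIdeal ((BlowUpLib.centre (A := R) (Ideal.span {a, b})).comap M.G)) :
    Dec M (ι a / ι b) := by
  intro x
  obtain ⟨γ, hγ, hI⟩ := exists_gen hE x
  have h1 := RatSing.sI_pow_centre M (Ideal.span {a, b}) 1 x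
  rw [pow_one, pow_one, hI, Ideal.map_span, Set.image_pair] at h1
  obtain ⟨p, hp⟩ := Ideal.mem_span_singleton.1 (h1.ge (Ideal.subset_span (Set.mem_insert _ _)))
  obtain ⟨q, hq⟩ := Ideal.mem_span_singleton.1 (h1.ge (Ideal.subset_span (Set.mem_insert_of_mem _ rfl)))
  obtain ⟨x', y', hxy⟩ := Ideal.mem_span_pair.1 (h1.le (Ideal.mem_span_singleton_self γ))
  have hγ0 : γ ≠ 0 := nonZeroDivisors.ne_zero hγ
  have hsum : x' * p + y' * q = 1 := mul_left_cancel₀ hγ0 (by rw [mul_one]; rw [hp, hq] at hxy; linear_combination hxy)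
  have hne : ι b ≠ 0 := (map_ne_zero_iff _ (IsFractionRing.injective R _)).2 hb
  rcases IsLocalRing.isUnit_or_isUnit_of_add_one hsum with hu | hu
  · obtain ⟨v, hv⟩ := (isUnit_of_mul_isUnit_right hu).exists_right_inv
    refine Or.inr ⟨q * v, ?_⟩
    have h2 : RatSing.strStalk M x b = q * v * RatSing.strStalk M x a := by
      rw [hp, hq]; linear_combination -q * γ * hv
    have h3 := congrArg (M.toKHom x) h2
    rw [map_mul, RatSing.toK_strStalk, RatSing.toK_strStalk] at h3
    have ha : ι a ≠ 0 := fun h => hne (by rw [h3, h, mul_zero])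
    show M.toKHom x (q * v) = _
    rw [inv_div, eq_div_iff ha, ← h3]
  · obtain ⟨v, hv⟩ := (isUnit_of_mul_isUnit_right hu).exists_right_inv
    refine Or.inl ⟨p * v, ?_⟩
    have h2 : RatSing.strStalk M x a = p * v * RatSing.strStalk M x b := by
      rw [hp, hq]; linear_combination -p * γ * hv
    have h3 := congrArg (M.toKHom x) h2
    rw [map_mul, RatSing.toK_strStalk, RatSing.toK_strStalk] at h3
    show M.toKHom x (p * v) = _
    rw [eq_div_iff hne, ← h3]

theorem comp_comp (M : Model (Spec R)) {Y Y' : Scheme.{u}} [IsIntegral Y] [IsIntegral Y'] (h : Y ⟶ M.Z)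
    (hgen : h (genericPoint Y) = genericPoint M.Z) (hbir : IsIso (h.stalkMap (genericPoint Y))) (g : Y' ⟶ Y)
    (hgen' : g (genericPoint Y') = genericPoint Y) (hbir' : IsIso (g.stalkMap (genericPoint Y')))
    {p₁ : (g ≫ h) (genericPoint Y') = genericPoint M.Z} {q₁ : IsIso ((g ≫ h).stalkMap (genericPoint Y'))} :
    M.comp (g ≫ h) p₁ q₁ = (M.comp h hgen hbir).comp g hgen' hbir' := by
  simp only [Model.comp, Category.assoc]

/-- Finitely many elements are decided on some normal model. -/
theorem exists_dec (M : Model (Spec R)) (hM : Nice M.Z) (S : Finset (Spec R).functionField) :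
    ∃ (Y : Scheme.{u}) (h : Y ⟶ M.Z) (_ : IsIntegral Y) (hgen : h (genericPoint Y) = genericPoint M.Z)
      (hbir : IsIso (h.stalkMap (genericPoint Y))), Nice Y ∧ IsProper h ∧ ∀ e ∈ S, Dec (M.comp h hgen hbir) e := by
  classical
  induction S using Finset.induction_on with
  | empty =>
    exact ⟨M.Z, 𝟙 _, inferInstance, rfl, inferInstance, hM, inferInstance,
      fun e he => absurd he (Finset.notMem_empty e)⟩
  | insert e S _ ih =>
    obtain ⟨Y, h, hYi, hgen, hbir, hY, hP, hS⟩ := ih
    haveI := hYi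
    haveI := hP
    let N := M.comp h hgen hbir
    obtain ⟨a, b, hb, hab⟩ := IsFractionRing.div_surjective (A := R) e
    have hb0 : b ≠ 0 := nonZeroDivisors.ne_zero hb
    obtain ⟨Z', b', Y', ν, hY'i, -, -, hY', hP', hbir', hE⟩ := exists_normalised_blowUp N hY (Ideal.span {a, b})
      (fun h0 => hb0 (Ideal.span_eq_bot.1 h0 b (Set.mem_insert_of_mem _ rfl)))
    haveI := hY'i
    haveI := hP'
    haveI : LocallyOfFiniteType (ν ≫ b') := inferInstance
    have hgen' := SurfSeq.map_generic (ν ≫ b') hbir'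
    refine ⟨Y', (ν ≫ b') ≫ h, hY'i, by rw [Scheme.Hom.comp_apply]; erw [hgen']; exact hgen, ?_, hY', inferInstance, ?_⟩
    · rw [Scheme.Hom.stalkMap_comp]
      haveI := hbir'
      haveI : IsIso (h.stalkMap ((ν ≫ b') (genericPoint Y'))) := by erw [hgen']; exact hbir
      infer_instance
    · intro e' he'
      rw [comp_comp M h hgen hbir (ν ≫ b') hgen' hbir']
      rcases Finset.mem_insert.1 he' with rfl | he''
      · rw [← hab]
        exact dec_of_isEffCartier (N.comp (ν ≫ b') hgen' hbir') hb0 hE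
      · exact (hS e' he'').comp _ _ _

theorem mem_chart_iff (I : Ideal R) (a b : I) (hb : (b : R) ≠ 0) (hI : I ≤ Ideal.span {(a : R), (b : R)}) (X : Model (Spec R))
    (h : X.Z ⟶ BlowUpLib.localBlowUp (A := R) I) (hh : h ≫ BlowUpLib.toBase I = X.G)
    (hE : BlowUp.IsEffCartierIdeal ((BlowUpLib.centre (A := R) I).comap X.G)) (w : X.Z) :
    h w ∈ (BlowUpLib.chart (A := R) I b).opensRange ↔ ι a / ι b ∈ locRing X w := by
  have hne : ι (b : R) ≠ 0 := (map_ne_zero_iff _ (IsFractionRing.injective R _)).2 hb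
  constructor
  · intro hw
    obtain ⟨U, hU, hwU, hUle⟩ := exists_isAffineOpen_mem_and_subset (x := w)
      (U := h ⁻¹ᵁ (BlowUpLib.chart (A := R) I b).opensRange) hw
    let D : X.Z.affineOpens := ⟨U, hU⟩
    have hle : Set.range (D.2.fromSpec ≫ h) ⊆ Set.range (BlowUpLib.chart (A := R) I b) := by
      rintro _ ⟨p, rfl⟩
      exact hUle (D.2.range_fromSpec.le (Set.mem_range_self p))
    obtain ⟨ψ, hψ⟩ := Spec.map_surjective
      (IsOpenImmersion.lift (BlowUpLib.chart (A := R) I b) (D.2.fromSpec ≫ h) hle)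
    have hψφ : ψ.hom.comp (algebraMap R _) = BlowUpLib.strHom (A := R) X.G D.1 := by
      have : Spec.map ψ ≫ BlowUpLib.chart (A := R) I b ≫ BlowUpLib.toBase I =
          Spec.map (CommRingCat.ofHom (BlowUpLib.strHom (A := R) X.G D.1)) := by
        rw [hψ, IsOpenImmersion.lift_fac_assoc, Category.assoc, hh, BlowUpLib.SpecMap_strHom]
      rw [BlowUpLib.chart_toBase, ← Spec.map_comp] at this
      exact congrArg CommRingCat.Hom.hom (Spec.map_injective this)
    have h1 := congrArg (fun t => X.toKHom w (X.Z.presheaf.germ U w hwU (ψ t))) (BlowUpLib.frac_mul I a b)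
    simp only [map_mul] at h1
    have h2 : ∀ r, X.toKHom w (X.Z.presheaf.germ U w hwU (ψ (algebraMap R _ r))) = ι r := fun r => by
      rw [show ψ (algebraMap R _ r) = BlowUpLib.strHom (A := R) X.G U r from congr($hψφ r),
        RatSing.germ_strHom X hwU, RatSing.toK_strStalk]
    rw [h2, h2] at h1
    exact ⟨_, (eq_div_iff hne).2 h1⟩
  · rintro ⟨r, hr⟩
    obtain ⟨U₀, hwU₀, s₀, rfl⟩ := X.Z.presheaf.exists_germ_eq (x := w) r
    obtain ⟨U, hU, hwU, hle⟩ := exists_isAffineOpen_mem_and_subset (x := w) (U := U₀) hwU₀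
    refine BlowUpLib.range_subset_chart I hE h hh b ⟨U, hU⟩ ?_ w hwU
    have hs : BlowUpLib.strHom (A := R) X.G U a =
        X.Z.presheaf.map (homOfLE hle).op s₀ * BlowUpLib.strHom (A := R) X.G U b := by
      haveI : Nonempty U := ⟨⟨w, hwU⟩⟩
      refine germ_injective_of_isIntegral X.Z w hwU (X.toK_injective w ?_)
      rw [map_mul, map_mul, RatSing.germ_strHom X hwU, RatSing.germ_strHom X hwU, RatSing.toK_strStalk,
        RatSing.toK_strStalk]
      erw [TopCat.Presheaf.germ_res_apply]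
      change (X.toKHom w).hom _ = _ at hr
      erw [hr]
      rw [div_mul_cancel₀ _ hne]
    rw [BlowUpLib.ideal_comap_centre]
    refine le_antisymm ((Ideal.map_mono hI).trans ?_)
      ((Ideal.span_singleton_le_iff_mem _).2 (Ideal.mem_map_of_mem _ b.2))
    rw [Ideal.map_span, Set.image_pair, Ideal.span_le]
    rintro t (rfl | rfl)
    · exact Ideal.mem_span_singleton.2 (Dvd.intro_left _ hs.symm)
    · exact Ideal.mem_span_singleton_self _

/-- The two affine charts of the normalised blow-up of a pair. -/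
theorem exists_twoChart (hR : Nice (Spec R)) (c : (Spec R).functionField) (hc : c ≠ 0) :
    ∃ (X : Model (Spec R)) (V W : X.Z.Opens), Nice X.Z ∧ IsProper X.G ∧ IsAffineOpen V ∧ IsAffineOpen W ∧
      (∀ w, w ∈ V ↔ c ∈ locRing X w) ∧ (∀ w, w ∈ W ↔ c⁻¹ ∈ locRing X w) ∧ Dec X c := by
  obtain ⟨a, b, hb, hab⟩ := IsFractionRing.div_surjective (A := R) c
  have hb0 : b ≠ 0 := nonZeroDivisors.ne_zero hb
  have ha0 : a ≠ 0 := fun h => hc (by rw [← hab, h, map_zero, zero_div])
  let I : Ideal R := Ideal.span {a, b}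
  let M₀ : Model (Spec R) :=
    { Z := Spec R
      G := 𝟙 _
      gen := rfl
      bir := inferInstance }
  obtain ⟨Z', b', Y, ν, hYi, hfin, hbl, hY, hP, hbir, hE⟩ := exists_normalised_blowUp M₀ hR I
    (fun h0 => hb0 (Ideal.span_eq_bot.1 h0 b (Set.mem_insert_of_mem _ rfl)))
  haveI := hYi
  haveI := hfin
  haveI := hP
  rw [Category.comp_id] at hE
  rw [Scheme.IdealSheafData.comap_id] at hbl
  obtain ⟨e, he⟩ := BlowUpLib.exists_iso hbl (BlowUpLib.isBlowUp_local I)
  let X : Model (Spec R) :=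
    { Z := Y
      G := ν ≫ b'
      gen := SurfSeq.map_generic (ν ≫ b') hbir
      bir := hbir }
  let h : Y ⟶ BlowUpLib.localBlowUp (A := R) I := ν ≫ e.hom
  have hh : h ≫ BlowUpLib.toBase I = X.G := by rw [Category.assoc, he]
  have haff : ∀ t : I, IsAffineOpen (h ⁻¹ᵁ (BlowUpLib.chart (A := R) I t).opensRange) := fun t =>
    (isAffineOpen_opensRange (BlowUpLib.chart (A := R) I t)).preimage h
  let a' : I := ⟨a, Ideal.subset_span (Set.mem_insert _ _)⟩
  let b'' : I := ⟨b, Ideal.subset_span (Set.mem_insert_of_mem _ rfl)⟩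
  refine ⟨X, h ⁻¹ᵁ (BlowUpLib.chart (A := R) I b'').opensRange, h ⁻¹ᵁ (BlowUpLib.chart (A := R) I a').opensRange,
    hY, hP, haff _, haff _, fun w => ?_, fun w => ?_, ?_⟩
  · rw [← hab]
    exact mem_chart_iff I a' b'' hb0 le_rfl X h hh hE w
  · rw [← hab, inv_div]
    exact mem_chart_iff I b'' a' ha0 (le_of_eq (congrArg Ideal.span (Set.pair_comm a b))) X h hh hE w
  · rw [← hab]
    exact dec_of_isEffCartier X hb0 hE

end Groth.Agent.RatUp
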