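import Mathlib
import Groth.Agent.RatUp.Val
import Groth.Agent.NormSeq.Main
import Groth.Agent.SurfSeq.Main
import Groth.Agent.Sol.Regular

/-!
# Sections of models inside the function field
-/

set_option autoImplicit false
set_option linter.style.haveILetI false
set_option linter.unusedSectionVars false
set_option backward.isDefEq.respectTransparency false
set_option backward.isDefEq.respectTransparency.types false
set_option maxHeartbeats 400000

universe u

open CategoryTheory CategoryTheory.Limits AlgebraicGeometry TopologicalSpace IsLocalRing Filter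
open scoped Topology
open Groth.Agent.FibrePP (O)
open Groth.Agent.NormSeq (Model locRing Nice)
open Groth.Agent.Sol

noncomputable section

namespace Groth.Agent.RatUp

variable {Z₀ : Scheme.{u}} [IsIntegral Z₀] (X : Model Z₀)

theorem generic_mem {U : X.Z.Opens} {w : X.Z} (hw : w ∈ U) : genericPoint X.Z ∈ U :=
  (genericPoint_specializes w).mem_open U.isOpen hw

/-- Sections as elements of the function field of the base. -/
def ev {U : X.Z.Opens} (hU : genericPoint X.Z ∈ U) : Γ(X.Z, U) →+* Z₀.functionField :=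
  (X.toKHom (genericPoint X.Z)).hom.comp (X.Z.presheaf.germ U _ hU).hom

theorem ev_eq {U : X.Z.Opens} (hU : genericPoint X.Z ∈ U) {w : X.Z} (hw : w ∈ U) (s : Γ(X.Z, U)) :
    ev X hU s = X.toKHom w (X.Z.presheaf.germ U w hw s) := by
  show (X.Z.presheaf.germ U _ hU ≫ X.toKHom _) s = (X.Z.presheaf.germ U w hw ≫ X.toKHom w) s
  rw [Model.toKHom, Model.toKHom, TopCat.Presheaf.germ_stalkSpecializes_assoc,
    TopCat.Presheaf.germ_stalkSpecializes_assoc]

theorem ev_mem {U : X.Z.Opens} (hU : genericPoint X.Z ∈ U) {w : X.Z} (hw : w ∈ U) (s : Γ(X.Z, U)) :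
    ev X hU s ∈ locRing X w := ⟨_, (ev_eq X hU hw s).symm⟩

theorem ev_injective {U : X.Z.Opens} (hU : genericPoint X.Z ∈ U) : Function.Injective (ev X hU) := by
  haveI : Nonempty U := ⟨⟨_, hU⟩⟩
  exact (X.toK_injective _).comp (germ_injective_of_isIntegral X.Z _ hU)

theorem ev_res {U U' : X.Z.Opens} (hle : U' ≤ U) (hU' : genericPoint X.Z ∈ U') (s : Γ(X.Z, U)) :
    ev X hU' (X.Z.presheaf.map (homOfLE hle).op s) = ev X (hle hU') s :=
  congrArg (X.toKHom _) (X.Z.presheaf.germ_res_apply _ _ _ s)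

theorem mem_basicOpen_iff {U : X.Z.Opens} (hU : genericPoint X.Z ∈ U) {w : X.Z} (hw : w ∈ U) (s : Γ(X.Z, U))
    (hs : s ≠ 0) : w ∈ X.Z.basicOpen s ↔ (ev X hU s)⁻¹ ∈ locRing X w := by
  rw [X.Z.mem_basicOpen' s ⟨w, hw⟩, ev_eq X hU hw]
  have h0 : ev X hU s ≠ 0 := fun h => hs (ev_injective X hU (h.trans (map_zero _).symm))
  rw [ev_eq X hU hw] at h0
  constructor
  · intro hu
    obtain ⟨v, hv⟩ := hu.exists_right_inv
    exact ⟨v, eq_inv_of_mul_eq_one_right (by rw [← map_mul, hv, map_one])⟩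
  · rintro ⟨v, hv⟩
    refine IsUnit.of_mul_eq_one v (X.toK_injective w ?_)
    change X.toKHom w v = _ at hv
    rw [map_mul, map_one, hv, mul_inv_cancel₀ h0]

/-- An element of all local rings on an open set is a section. -/
theorem exists_ev_eq {U : X.Z.Opens} (hU : genericPoint X.Z ∈ U) (c : Z₀.functionField)
    (hc : ∀ w ∈ U, c ∈ locRing X w) : ∃ s, ev X hU s = c := by
  obtain ⟨s, hs⟩ := exists_section_of_mem U hU (X.ψ c) fun w hw => (mem_locRing_iff X w c).1 (hc w hw)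
  refine ⟨s, (ConcreteCategory.bijective_of_isIso X.ψ).1 ?_⟩
  show (X.Z.presheaf.germ U _ hU ≫ X.toKHom _ ≫ X.ψ) s = _
  rw [Model.toKHom, Category.assoc, IsIso.inv_hom_id, Category.comp_id, TopCat.Presheaf.germ_stalkSpecializes]
  exact hs

/-- Data on an affine open can be solved there. -/
theorem solve_affine {D : X.Z.Opens} (hD : IsAffineOpen D) (g : X.Z → Z₀.functionField)
    (hg : ∀ w ∈ D, ∀ᶠ y in 𝓝 w, y ∈ D → g w - g y ∈ locRing X y) :
    ∃ d, ∀ w ∈ D, d - g w ∈ locRing X w := by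
  rcases (D : Set X.Z).eq_empty_or_nonempty with he | ⟨w₀, hw₀⟩
  · exact ⟨0, fun w hw => absurd (he.subset hw) (Set.notMem_empty w)⟩
  haveI : Nonempty D := ⟨⟨w₀, hw₀⟩⟩
  haveI : IsIntegral (D : Scheme) := isIntegral_of_isOpenImmersion D.ι
  haveI : IsAffine (D : Scheme) := hD
  have hgen : D.ι (genericPoint (D : Scheme)) = genericPoint X.Z := genericPoint_eq_of_isOpenImmersion D.ι
  let N : Model Z₀ := X.comp D.ι hgen inferInstance
  have heq : ∀ u, locRing N u = locRing X (D.ι u) := fun u => by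
    refine le_antisymm ?_ ?_
    · rintro c ⟨a, rfl⟩
      obtain ⟨b, rfl⟩ := (ConcreteCategory.bijective_of_isIso (D.ι.stalkMap u)).2 a
      exact ⟨b, (congr($(X.comp_toK D.ι hgen inferInstance u) b)).symm⟩
    · rintro c ⟨a, rfl⟩
      exact ⟨D.ι.stalkMap u a, congr($(X.comp_toK D.ι hgen inferInstance u) a)⟩
  have hsol : Sol (locRing N) :=
    (sol_locRing_iff N).2 (sol_iff_solOn_univ.2 (solOn_affine (isAffineOpen_top (D : Scheme))))
  obtain ⟨d, hd⟩ := hsol (fun u => g (D.ι u)) fun u => by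
    refine ((D.ι.continuous.tendsto u).eventually (hg (D.ι u) u.2)).mono fun y hy => ?_
    rw [heq]
    exact hy y.2
  exact ⟨d, fun w hw => heq ⟨w, hw⟩ ▸ hd ⟨w, hw⟩⟩

theorem split_id {F : Type u} [Field F] {e r u v a b : F} (ha : a ≠ 0) (hb : b ≠ 0) (L : ℕ)
    (h1 : e * (a * b) ^ L = r) (h2 : u * a ^ L + v * b ^ L = 1) :
    e = v * r * a⁻¹ ^ L - -(u * r * b⁻¹ ^ L) := by
  have ha' := pow_ne_zero L ha
  have hb' := pow_ne_zero L hb
  rw [inv_pow, inv_pow, ← h1, mul_pow]
  field_simp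
  linear_combination -e * h2

/-- Splitting a function on the overlap of two basic opens of an affine open. -/
theorem exists_split {U : X.Z.Opens} (hU : IsAffineOpen U) (hgU : genericPoint X.Z ∈ U) (φ ψ : Γ(X.Z, U))
    (hφ : φ ≠ 0) (hψ : ψ ≠ 0) (hco : IsCoprime φ ψ) (e : Z₀.functionField)
    (he : ∀ w ∈ U, w ∈ X.Z.basicOpen φ → w ∈ X.Z.basicOpen ψ → e ∈ locRing X w) :
    ∃ p q, e = p - q ∧ (∀ w ∈ U, w ∈ X.Z.basicOpen φ → p ∈ locRing X w) ∧
      (∀ w ∈ U, w ∈ X.Z.basicOpen ψ → q ∈ locRing X w) := by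
  haveI : Nonempty U := ⟨⟨_, hgU⟩⟩
  have hne : ∀ s : Γ(X.Z, U), s ≠ 0 → ev X hgU s ≠ 0 := fun s hs h0 =>
    hs (ev_injective X hgU (h0.trans (map_zero _).symm))
  have hgb : genericPoint X.Z ∈ X.Z.basicOpen (φ * ψ) := by
    refine (X.Z.mem_basicOpen' (φ * ψ) ⟨_, hgU⟩).2 ?_
    show IsUnit (M := X.Z.functionField) (X.Z.presheaf.germ U _ hgU (φ * ψ))
    refine isUnit_iff_ne_zero.2 fun h0 => mul_ne_zero hφ hψ ?_
    exact germ_injective_of_isIntegral X.Z _ hgU (h0.trans (map_zero _).symm)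
  obtain ⟨s, hs⟩ := exists_ev_eq X hgb e fun w hw => by
    rw [X.Z.basicOpen_mul] at hw
    exact he w (X.Z.basicOpen_le φ hw.1) hw.1 hw.2
  haveI := hU.isLocalization_basicOpen (φ * ψ)
  obtain ⟨L, r, hr⟩ := IsLocalization.Away.surj (φ * ψ) s
  have h1 := congrArg (ev X hgb) hr
  simp only [map_mul, map_pow, RingHom.algebraMap_toAlgebra] at h1
  erw [ev_res X (X.Z.basicOpen_le _) hgb, ev_res X (X.Z.basicOpen_le _) hgb, ev_res X (X.Z.basicOpen_le _) hgb] at h1
  rw [hs] at h1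
  obtain ⟨u, v, huv⟩ := hco.pow (m := L) (n := L)
  have h2 := congrArg (ev X hgU) huv
  rw [map_add, map_mul, map_mul, map_pow, map_pow, map_one] at h2
  have hp := pow_ne_zero L (hne φ hφ)
  have hq := pow_ne_zero L (hne ψ hψ)
  refine ⟨ev X hgU (v * r) * (ev X hgU φ)⁻¹ ^ L, -(ev X hgU (u * r) * (ev X hgU ψ)⁻¹ ^ L), ?_, ?_, ?_⟩
  · rw [map_mul, map_mul]
    exact split_id (hne φ hφ) (hne ψ hψ) L h1 h2
  · intro w hw hwb
    exact mul_mem (ev_mem X hgU hw _) (pow_mem ((mem_basicOpen_iff X hgU hw φ hφ).1 hwb) L)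
  · intro w hw hwb
    exact neg_mem (mul_mem (ev_mem X hgU hw _) (pow_mem ((mem_basicOpen_iff X hgU hw ψ hψ).1 hwb) L))

/-- Over points of codimension at most one a birational morphism to a normal scheme has bijective stalk maps. -/
theorem isIso_of_dim_le_one_normal {X Y : Scheme.{u}} [IsIntegral X] [IsIntegral Y] [IsLocallyNoetherian Y]
    (f : X ⟶ Y) [LocallyOfFiniteType f] (hbir : IsIso (f.stalkMap (genericPoint X))) (x : X)
    (hn : IsIntegrallyClosed (Y.presheaf.stalk (f x)))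
    (h : ringKrullDim (Y.presheaf.stalk (f x)) ≤ 1) : IsIso (f.stalkMap x) := by
  haveI := hn
  haveI : Ring.KrullDimLE 1 (Y.presheaf.stalk (f x)) := Ring.krullDimLE_iff.mpr h
  haveI : Ring.DimensionLEOne (Y.presheaf.stalk (f x)) :=
    ⟨fun {p} hp0 hp => Ring.krullDimLE_one_iff_of_noZeroDivisors.mp inferInstance p hp0 hp⟩
  have hD : IsDedekindDomain (Y.presheaf.stalk (f x)) := {}
  have hv : ValuationRing (Y.presheaf.stalk (f x)) :=
    ((tfae_of_isNoetherianRing_of_isLocalRing_of_isDomain (Y.presheaf.stalk (f x))).out 2 1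
      (a := IsDedekindDomain (Y.presheaf.stalk (f x))) (b := ValuationRing (Y.presheaf.stalk (f x))) rfl rfl).mp hD
  exact (ConcreteCategory.isIso_iff_bijective _).2 ⟨SurfSeq.injective_stalk f hbir x,
    Lib.ZMTCodim.surjective_stalkMap f _ (SurfSeq.surjective_functionField f hbir) x hv⟩

/-- The images of the points without bijective stalk maps are finitely many closed points. -/
theorem finite_bad {X Y : Scheme.{u}} [IsIntegral X] [IsIntegral Y] (hY : Nice Y)
    (f : X ⟶ Y) [IsProper f] (hbir : IsIso (f.stalkMap (genericPoint X))) :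
    (f '' {w | ¬ IsIso (f.stalkMap w)}).Finite ∧
      ∀ z ∈ f '' {w | ¬ IsIso (f.stalkMap w)}, IsClosed ({z} : Set Y) := by
  haveI := hY.noeth
  have hcl : IsClosed {w : X | ¬ IsIso (f.stalkMap w)} := by
    rw [← isOpen_compl_iff, isOpen_iff_forall_mem_open]
    intro w hw
    obtain ⟨W, hwW, hOI⟩ := PurBir.exists_isOpenImmersion_of_isIso_stalkMap f (not_not.1 hw)
    haveI := hOI
    exact ⟨W, fun y hy hn => hn (PurBir.isIso_stalkMap_of_mem f (W := W) hy), W.isOpen, hwW⟩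
  have hpt : ∀ z ∈ f '' {w | ¬ IsIso (f.stalkMap w)}, IsClosed ({z} : Set Y) := by
    rintro _ ⟨w, hw, rfl⟩
    refine SurfSeq.closed_two hY.dim (le_antisymm (hY.dim _) ?_)
    by_contra hlt
    refine hw (isIso_of_dim_le_one_normal f hbir w (hY.normal _).2 ?_)
    rw [ringKrullDim_stalk_eq_coheight] at hlt ⊢
    have hlt' : Order.coheight (f w) < 2 := WithBot.coe_lt_coe.1 (lt_of_not_ge hlt |>.trans_le (le_of_eq (by rfl)))
    exact WithBot.coe_le_coe.2 (Order.le_of_lt_add_one (show Order.coheight (f w) < 1 + 1 by rwa [one_add_one_eq_two]))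
  exact ⟨PointBlow.finite_of_closed_points (f.isClosedMap _ hcl) hpt, hpt⟩

end Groth.Agent.RatUp
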