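import Mathlib
import Groth.Agent.RatUp.Sections
import Groth.Agent.RatUp.Decide
import Groth.Agent.RatSing.Fibre

/-!
# Centres of a dominating valuation on pair blow-ups
-/

set_option autoImplicit false
set_option linter.style.haveILetI false
set_option linter.unusedSectionVars false
set_option backward.isDefEq.respectTransparency false
set_option backward.isDefEq.respectTransparency.types false
set_option maxHeartbeats 400000

universe u

open CategoryTheory CategoryTheory.Limits AlgebraicGeometry TopologicalSpace IsLocalRing Polynomial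
open Groth.Agent.NormSeq (Model locRing Nice)

noncomputable section

namespace Groth.Agent.RatUp

variable {R : CommRingCat.{u}} [IsDomain R]

local notation "KK" => Scheme.functionField (Spec R)
local notation "ι" => algebraMap R (Scheme.functionField (Spec R))

/-- A local normal subring with a dominating valuation ring. -/
structure Dominated (B : Subring (Spec R).functionField) (U : ValuationSubring (Spec R).functionField) : Prop where
  base : ∀ a : R, ι a ∈ B
  le : B ≤ U.toSubring
  dom : ∀ b ∈ B, b⁻¹ ∈ U → b⁻¹ ∈ B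
  normal : ∀ c, (∀ V : ValuationSubring (Spec R).functionField, B ≤ V.toSubring → c ∈ V) → c ∈ B

variable {B : Subring (Spec R).functionField} {U : ValuationSubring (Spec R).functionField}
  (hB : Dominated B U) (X : Model (Spec R)) [IsProper X.G]

include hB in
/-- The centre of the dominating valuation ring lies below the subring. -/
theorem centre_le {c : KK} (hdec : Dec X c) (hc : c ∈ B) {O : X.Z.Opens} (hO : IsAffineOpen O)
    (hOc : ∀ w, w ∈ O ↔ c ∈ locRing X w) {z : X.Z} (hz : Ctr X U z) : locRing X z ≤ B := by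
  have hzO : z ∈ O := (hOc z).2 (hz.mem hdec (hB.le hc))
  have hgO := generic_mem X hzO
  have hevB : ∀ r, ev X hgO r ∈ B := fun r => hB.normal _ fun V hV => by
    obtain ⟨w, hw⟩ := exists_ctr X V fun a => hV (hB.base a)
    exact hw.1 (ev_mem X hgO ((hOc w).2 (hw.mem hdec (hV hc))) r)
  rintro x ⟨t, rfl⟩
  letI := X.Z.presheaf.algebra_section_stalk (⟨z, hzO⟩ : O)
  haveI := hO.isLocalization_stalk ⟨z, hzO⟩
  obtain ⟨⟨r, s⟩, hrs⟩ := IsLocalization.surj (hO.primeIdealOf ⟨z, hzO⟩).asIdeal.primeCompl t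
  have hev : ∀ q, ev X hgO q = X.toKHom z (algebraMap Γ(X.Z, O) (X.Z.presheaf.stalk z) q) := fun q =>
    ev_eq X hgO hzO q
  obtain ⟨v, hv⟩ := (IsLocalization.map_units (X.Z.presheaf.stalk z) s).exists_right_inv
  have hv' : ev X hgO (s : Γ(X.Z, O)) * X.toKHom z v = 1 := by rw [hev, ← map_mul, hv, map_one]
  have hvB : X.toKHom z v ∈ B := by
    rw [eq_inv_of_mul_eq_one_right hv']
    exact hB.dom _ (hevB _) (hz.1 ⟨v, eq_inv_of_mul_eq_one_right hv'⟩)
  have e : X.toKHom z t = ev X hgO r * X.toKHom z v := by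
    rw [hev, ← hrs, map_mul, mul_assoc, ← map_mul (X.toKHom z).hom (algebraMap _ _ _) v, hv, map_one, mul_one]
  show X.toKHom z t ∈ B
  rw [e]
  exact mul_mem (hevB r) hvB

include hB in
/-- The centre of the dominating valuation ring is a closed point. -/
theorem isClosed_centre (hX : Nice X.Z) {z : X.Z} (hz : Ctr X U z) (hle : locRing X z ≤ B)
    (hdim : ringKrullDim B = 2) : ringKrullDim (X.Z.presheaf.stalk z) = 2 ∧ IsClosed ({z} : Set X.Z) := by
  haveI := hX.noeth
  have hd : ringKrullDim (X.Z.presheaf.stalk z) = 2 := by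
    refine le_antisymm (hX.dim z) ?_
    by_contra hlt
    have h1 : ringKrullDim (X.Z.presheaf.stalk z) ≤ 1 := by
      rw [ringKrullDim_stalk_eq_coheight] at hlt ⊢
      have hlt' : Order.coheight z < 2 := WithBot.coe_lt_coe.1 (lt_of_not_ge hlt |>.trans_le (le_of_eq (by rfl)))
      exact WithBot.coe_le_coe.2 (Order.le_of_lt_add_one (show Order.coheight z < 1 + 1 by rwa [one_add_one_eq_two]))
    haveI := (hX.normal z).2
    haveI : Ring.KrullDimLE 1 (X.Z.presheaf.stalk z) := Ring.krullDimLE_iff.mpr h1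
    haveI : Ring.DimensionLEOne (X.Z.presheaf.stalk z) :=
      ⟨fun {p} hp0 hp => Ring.krullDimLE_one_iff_of_noZeroDivisors.mp inferInstance p hp0 hp⟩
    have hD : IsDedekindDomain (X.Z.presheaf.stalk z) := {}
    have hv : ValuationRing (X.Z.presheaf.stalk z) :=
      ((tfae_of_isNoetherianRing_of_isLocalRing_of_isDomain (X.Z.presheaf.stalk z)).out 2 1
        (a := IsDedekindDomain (X.Z.presheaf.stalk z)) (b := ValuationRing (X.Z.presheaf.stalk z)) rfl rfl).mp hD
    haveI := hv
    have htot : ∀ x : KK, x ∈ locRing X z ∨ x⁻¹ ∈ locRing X z := fun x => by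
      obtain ⟨p, q, hq, hpq⟩ := IsFractionRing.div_surjective (A := R) x
      obtain ⟨p', hp'⟩ := RatSing.map_mem_locRing X z p
      obtain ⟨q', hq'⟩ := RatSing.map_mem_locRing X z q
      change X.toKHom z p' = _ at hp'
      change X.toKHom z q' = _ at hq'
      have hq0 : ι q ≠ 0 := (map_ne_zero_iff _ (IsFractionRing.injective R _)).2 (nonZeroDivisors.ne_zero hq)
      rcases ValuationRing.cond p' q' with ⟨t, ht | ht⟩
      · by_cases hx : x = 0
        · exact Or.inl (hx ▸ zero_mem _)
        refine Or.inr ⟨t, ?_⟩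
        show X.toKHom z t = x⁻¹
        have h2 : ι p * X.toKHom z t = ι q := by rw [← hp', ← hq', ← map_mul, ht]
        rw [← hpq, inv_div, eq_div_iff (fun h0 => hq0 (by rw [← h2, h0, zero_mul])), mul_comm]
        exact h2
      · refine Or.inl ⟨t, ?_⟩
        show X.toKHom z t = x
        have h2 : ι q * X.toKHom z t = ι p := by rw [← hp', ← hq', ← map_mul, ht]
        rw [← hpq, eq_div_iff hq0, mul_comm]
        exact h2
    have hBz : B ≤ locRing X z := fun x hx => by
      rcases htot x with h | h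
      · exact h
      · have h2 := hz.2 _ h (by rw [inv_inv]; exact hB.le hx)
        rwa [inv_inv] at h2
    have e : X.Z.presheaf.stalk z ≃+* B :=
      ((RingEquiv.ofBijective ((X.toKHom z).hom.rangeRestrict) ⟨fun a b hab => X.toK_injective z (congrArg Subtype.val hab),
        (X.toKHom z).hom.rangeRestrict_surjective⟩).trans (RingEquiv.subringCongr (le_antisymm hle hBz)))
    rw [ringKrullDim_eq_of_ringEquiv e, hdim] at h1
    exact absurd (WithBot.coe_le_coe.1 (h1.trans' (le_of_eq (by rfl)) : ((2 : ℕ∞) : WithBot ℕ∞) ≤ (1 : ℕ∞))) (by decide)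
  exact ⟨hd, SurfSeq.closed_two hX.dim hd⟩

/-- At closed points above the closed point residues are algebraic over the base. -/
theorem exists_monic_nonunit [IsLocalRing R] (hX : Nice X.Z) {z : X.Z} (hzc : IsClosed ({z} : Set X.Z))
    (hm : ∀ a ∈ maximalIdeal R, ι a ≠ 0 → (ι a)⁻¹ ∉ locRing X z) {c : KK} (hc : c ∈ locRing X z) :
    ∃ P : R[X], P.Monic ∧ 0 < P.natDegree ∧
      (P.eval₂ ι c ≠ 0 → (P.eval₂ ι c)⁻¹ ∉ locRing X z) := by
  obtain ⟨O, hO, hzO, hOle⟩ := exists_isAffineOpen_mem_and_subset (x := z)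
    (U := (⟨{w | c ∈ locRing X w}, isOpen_mem X c⟩ : X.Z.Opens)) hc
  have hgO := generic_mem X hzO
  obtain ⟨s, hs⟩ := exists_ev_eq X hgO c fun w hw => hOle hw
  let φ : R →+* Γ(X.Z, O) := BlowUpLib.strHom (A := R) X.G O
  have hφ : ∀ a, ev X hgO (φ a) = ι a := fun a => by
    show X.toKHom _ (X.Z.presheaf.germ O _ hgO _) = _
    rw [RatSing.germ_strHom X hgO, RatSing.toK_strStalk]
  have hft : φ.FiniteType := by
    refine RingHom.FiniteType.comp (f := (Scheme.ΓSpecIso R).inv.hom)
      (X.G.finiteType_appLE (isAffineOpen_top _) hO le_top) ?_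
    exact RingHom.FiniteType.of_surjective _ (ConcreteCategory.bijective_of_isIso (Scheme.ΓSpecIso R).inv).2
  haveI hp := hO.primeIdealOf_isMaximal_of_isClosed ⟨z, hzO⟩ hzc
  set p := (hO.primeIdealOf ⟨z, hzO⟩).asIdeal with hpdef
  have hgerm : ∀ q : Γ(X.Z, O), q ∈ p ↔ (ev X hgO q ≠ 0 → (ev X hgO q)⁻¹ ∉ locRing X z) := fun q => by
    rw [hpdef, hO.primeIdealOf_eq_map_closedPoint]
    show (X.Z.presheaf.germ O z hzO q ∈ maximalIdeal (X.Z.presheaf.stalk z)) ↔ _
    rw [mem_maximalIdeal, mem_nonunits_iff, ← X.Z.mem_basicOpen' q ⟨z, hzO⟩]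
    by_cases hq : q = 0
    · subst hq
      simp [Scheme.basicOpen_zero]
    have h0 : ev X hgO q ≠ 0 := fun h => hq (ev_injective X hgO (h.trans (map_zero _).symm))
    rw [mem_basicOpen_iff X hgO hzO q hq]
    exact ⟨fun h _ => h, fun h => h h0⟩
  have hmp : maximalIdeal R ≤ p.comap φ := fun a ha => by
    rw [Ideal.mem_comap, hgerm, hφ]
    exact fun h0 => hm a ha h0
  letI : Field (Γ(X.Z, O) ⧸ p) := Ideal.Quotient.field p
  let σ : ResidueField R →+* Γ(X.Z, O) ⧸ p :=
    Ideal.Quotient.lift (maximalIdeal R) ((Ideal.Quotient.mk p).comp φ) fun a ha =>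
      Ideal.Quotient.eq_zero_iff_mem.2 (hmp ha)
  letI := σ.toAlgebra
  haveI : Algebra.FiniteType (ResidueField R) (Γ(X.Z, O) ⧸ p) := by
    have h1 : (σ.comp (residue R)).FiniteType := by
      rw [show σ.comp (residue R) = (Ideal.Quotient.mk p).comp φ from rfl]
      exact (RingHom.FiniteType.of_surjective _ Ideal.Quotient.mk_surjective).comp hft
    exact RingHom.FiniteType.of_comp_finiteType h1
  haveI : Module.Finite (ResidueField R) (Γ(X.Z, O) ⧸ p) := finite_of_finite_type_of_isJacobsonRing _ _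
  have hint : IsIntegral (ResidueField R) (Ideal.Quotient.mk p s) := IsIntegral.of_finite _ _
  obtain ⟨Q, hQ, hQs⟩ := hint
  have hQd : 0 < Q.natDegree := by
    rcases Nat.eq_zero_or_pos Q.natDegree with h0 | h0
    · rw [(hQ.natDegree_eq_zero).1 h0, eval₂_one] at hQs
      exact absurd hQs one_ne_zero
    · exact h0
  obtain ⟨P, hP, hPd, hPm⟩ := Polynomial.lifts_and_degree_eq_and_monic (f := residue R)
    (Polynomial.mem_lifts_of_surjective residue_surjective Q) hQ
  refine ⟨P, hPm, by rwa [Polynomial.natDegree_eq_of_degree_eq hPd], ?_⟩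
  have h2 : P.eval₂ φ s ∈ p := by
    rw [← Ideal.Quotient.eq_zero_iff_mem, Polynomial.hom_eval₂, ← hQs, ← hP, Polynomial.eval₂_map]
    rfl
  have h3 : P.eval₂ ι c = ev X hgO (P.eval₂ φ s) := by
    rw [Polynomial.hom_eval₂, hs]
    congr 1
    exact RingHom.ext fun a => (hφ a).symm
  rw [h3]
  exact (hgerm _).1 h2

end Groth.Agent.RatUp
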