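import Mathlib
import Groth.Agent.RatUp.Sections
import Groth.Agent.RatUp.Decide

/-!
# Solvable data above a point of the normalised blow-up of a pair
-/

set_option autoImplicit false
set_option linter.style.haveILetI false
set_option linter.unusedSectionVars false
set_option backward.isDefEq.respectTransparency false
set_option backward.isDefEq.respectTransparency.types false
set_option maxHeartbeats 400000

universe u

open CategoryTheory CategoryTheory.Limits AlgebraicGeometry TopologicalSpace IsLocalRing Filter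
open scoped Topology
open Groth.Agent.NormSeq (Model locRing Nice)
open Groth.Agent.Sol

noncomputable section

namespace Groth.Agent.RatUp

/-- Compatible values over a subring given on valuation pieces have a common value. -/
def RatVal {K : Type u} [Field K] (B : Subring K) : Prop :=
  ∀ (n : ℕ) (E : Fin n → Finset K) (a : Fin n → K),
    (∀ V : ValuationSubring K, B ≤ V.toSubring → ∃ k, ∀ e ∈ E k, e ∈ V) →
    (∀ V : ValuationSubring K, B ≤ V.toSubring → ∀ k l, (∀ e ∈ E k, e ∈ V) → (∀ e ∈ E l, e ∈ V) → a k - a l ∈ V) →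
    ∃ h, ∀ V : ValuationSubring K, B ≤ V.toSubring → ∀ k, (∀ e ∈ E k, e ∈ V) → h - a k ∈ V

variable {R : CommRingCat.{u}} [IsDomain R]

local notation "KK" => Scheme.functionField (Spec R)

/-- Solvability on a dominating model. -/
theorem exists_value (X : Model (Spec R)) (hX : Nice X.Z) [IsProper X.G] {V W : X.Z.Opens} (hV : IsAffineOpen V)
    (hW : IsAffineOpen W) (hcov : ∀ w, w ∈ V ∨ w ∈ W) {z : X.Z} (hzV : z ∈ V) (hzW : z ∉ W)
    (hz : IsClosed ({z} : Set X.Z)) {n : ℕ} (E : Fin n → Finset KK) (a : Fin n → KK)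
    (hcovE : ∀ U : ValuationSubring KK, locRing X z ≤ U.toSubring → ∃ k, ∀ e ∈ E k, e ∈ U)
    (hag : ∀ U : ValuationSubring KK, locRing X z ≤ U.toSubring → ∀ k l,
      (∀ e ∈ E k, e ∈ U) → (∀ e ∈ E l, e ∈ U) → a k - a l ∈ U)
    {Y : Scheme.{u}} [IsIntegral Y] (h : Y ⟶ X.Z) [IsProper h] (hgen : h (genericPoint Y) = genericPoint X.Z)
    (hbir : IsIso (h.stalkMap (genericPoint Y))) (hY : Nice Y) (hdec : ∀ k, ∀ e ∈ E k, Dec (X.comp h hgen hbir) e)
    (hsol : Sol (locRing (X.comp h hgen hbir))) :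
    ∃ h₀, ∀ U : ValuationSubring KK, locRing X z ≤ U.toSubring → ∀ k, (∀ e ∈ E k, e ∈ U) → h₀ - a k ∈ U := by
  classical
  haveI := hY.noeth
  haveI := hX.noeth
  let M := X.comp h hgen hbir
  haveI : IsProper M.G := inferInstanceAs (IsProper (h ≫ X.G))
  haveI : IsNoetherian M.Z := hY.noeth
  haveI : X.Z.IsSeparated := ⟨by rw [← terminal.comp_from X.G]; infer_instance⟩
  let T : Fin n → Set M.Z := fun k => {w | (∀ e ∈ E k, e ∈ locRing M w) ∧ h w ∈ V}
  have hTo : ∀ k, IsOpen (T k) := fun k => by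
    have e1 : T k = (⋂ e ∈ E k, {w | e ∈ locRing M w}) ∩ h ⁻¹' V := by
      ext w
      simp only [T, Set.mem_inter_iff, Set.mem_iInter, Set.mem_setOf_eq, Set.mem_preimage]
      rfl
    rw [e1]
    exact (isOpen_biInter_finset fun e _ => isOpen_mem M e).inter (V.isOpen.preimage h.continuous)
  -- points over generalisations of `z`
  have hFB : ∀ w, h w ⤳ z → locRing X z ≤ locRing M w := fun w hw =>
    (locRing_mono X hw).trans (locRing_comp_le h hgen hbir w)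
  have hFT : ∀ w, h w ⤳ z → ∃ k, w ∈ T k := fun w hw => by
    obtain ⟨U, hU⟩ := exists_valuation M w
    obtain ⟨k, hk⟩ := hcovE U ((hFB w hw).trans hU.1)
    exact ⟨k, fun e he => hU.mem (hdec k e he) (hk e he), hw.mem_open V.isOpen hzV⟩
  have hFG : ∀ w, h w ⤳ z → ∀ k l, w ∈ T k → w ∈ T l → a k - a l ∈ locRing M w := fun w hw k l hk hl =>
    mem_locRing_of_forall M w (hY.normal w).2 _ fun U hU =>
      hag U ((hFB w hw).trans hU) k l (fun e he => hU (hk.1 e he)) (fun e he => hU (hl.1 e he))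
  -- the bad locus
  obtain ⟨hfin, hpt⟩ := finite_bad hX h hbir
  let Z₁ : Set X.Z := h '' (⋂ k, (T k)ᶜ)
  let S : Fin n → Fin n → Set M.Z := fun k l => {w | a k - a l ∈ locRing M w}ᶜ ∩ (T k ∩ T l)
  let Z₂ : Set X.Z := ⋃ k, ⋃ l, h '' closure (S k l)
  let Z₃ : Set X.Z := (h '' {w | ¬ IsIso (h.stalkMap w)}) \ {z}
  have hZc : IsClosed (Z₁ ∪ Z₂ ∪ Z₃) :=
    ((h.isClosedMap _ (isClosed_iInter fun k => (hTo k).isClosed_compl)).union
      (isClosed_iUnion_of_finite fun k => isClosed_iUnion_of_finite fun l => h.isClosedMap _ isClosed_closure)).union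
      (by
        rw [show Z₃ = ⋃ t ∈ (h '' {w | ¬ IsIso (h.stalkMap w)}) \ {z}, ({t} : Set X.Z) from (Set.biUnion_of_singleton _).symm]
        exact hfin.sdiff.isClosed_biUnion fun t ht => hpt t ht.1)
  have hzZ : z ∉ Z₁ ∪ Z₂ ∪ Z₃ := by
    rintro ((⟨w, hw, hwz⟩ | hz2) | hz3)
    · obtain ⟨k, hk⟩ := hFT w (hwz ▸ specializes_rfl)
      exact Set.mem_iInter.1 hw k hk
    · obtain ⟨k, hk⟩ := Set.mem_iUnion.1 hz2
      obtain ⟨l, w, hw, hwz⟩ := Set.mem_iUnion.1 hk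
      obtain ⟨ξ, ⟨hξ, hξT⟩, hξw⟩ := exists_specializes (isOpen_mem M (a k - a l)).isClosed_compl
        ((hTo k).inter (hTo l)) hw
      exact hξ (hFG ξ (hwz ▸ hξw.map h.continuous) k l hξT.1 hξT.2)
    · exact hz3.2 rfl
  -- the cover of the affine piece
  obtain ⟨φ, hφle, hzφ⟩ := hV.exists_basicOpen_le (V := ⟨(Z₁ ∪ Z₂ ∪ Z₃)ᶜ, hZc.isOpen_compl⟩)
    (⟨z, hzZ⟩ : (⟨(Z₁ ∪ Z₂ ∪ Z₃)ᶜ, hZc.isOpen_compl⟩ : X.Z.Opens)) hzV
  have hgV : genericPoint X.Z ∈ V := generic_mem X hzV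
  haveI hpmax := hV.primeIdealOf_isMaximal_of_isClosed ⟨z, hzV⟩ hz
  have hgerm : ∀ s : Γ(X.Z, V), s ∈ (hV.primeIdealOf ⟨z, hzV⟩).asIdeal ↔ z ∉ X.Z.basicOpen s := fun s => by
    rw [hV.primeIdealOf_eq_map_closedPoint, X.Z.mem_basicOpen' s ⟨z, hzV⟩]
    exact Iff.rfl
  obtain ⟨c, hc⟩ := hpmax.exists_inv (fun hφp => (hgerm φ).1 hφp hzφ)
  obtain ⟨ψ, hψp, hψ⟩ := hc
  have hcob : IsCoprime φ ψ := ⟨c, 1, by rw [one_mul]; exact hψ⟩
  have hzψ : z ∉ X.Z.basicOpen ψ := (hgerm ψ).1 hψp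
  have hφψ : ∀ x ∈ V, x ∈ X.Z.basicOpen φ ∨ x ∈ X.Z.basicOpen ψ := fun x hx => by
    by_contra hno
    push Not at hno
    obtain ⟨p, q, hpq⟩ := hcob
    rw [X.Z.mem_basicOpen' φ ⟨x, hx⟩, X.Z.mem_basicOpen' ψ ⟨x, hx⟩] at hno
    have h1 := congrArg (X.Z.presheaf.germ V x hx).hom hpq
    rw [map_add, map_mul, map_mul, map_one] at h1
    rcases IsLocalRing.isUnit_or_isUnit_of_add_one h1 with hu | hu
    · exact hno.1 (isUnit_of_mul_isUnit_right hu)
    · exact hno.2 (isUnit_of_mul_isUnit_right hu)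
  have hgood : ∀ x ∈ X.Z.basicOpen φ, x ≠ z → ∀ w, h w = x → IsIso (h.stalkMap w) := fun x hx hxz w hw => by
    by_contra hni
    exact hφle hx (Or.inr ⟨⟨w, hni, hw⟩, hxz⟩)
  have haff : ∀ D : X.Z.Opens, IsAffineOpen D → (∀ x ∈ D, x ∈ X.Z.basicOpen φ ∧ x ≠ z) → IsAffineOpen (h ⁻¹ᵁ D) := by
    intro D hD hDφ
    rcases (D : Set X.Z).eq_empty_or_nonempty with he | hne
    · rw [show h ⁻¹ᵁ D = ⊥ from Opens.ext (by rw [Scheme.Hom.coe_preimage, he, Set.preimage_empty, Opens.coe_bot])]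
      exact isAffineOpen_bot _
    haveI := isIso_restrict_of_stalk h hbir D hne fun w hw => hgood (h w) (hDφ _ hw).1 (hDφ _ hw).2 w rfl
    haveI : IsAffine (D : Scheme) := hD
    exact IsAffine.of_isIso (h ∣_ D)
  -- the datum over the neighbourhood
  have hTcov : ∀ w, h w ∈ X.Z.basicOpen φ → ∃ k, w ∈ T k := fun w hw => by
    by_contra hno
    push Not at hno
    exact hφle hw (Or.inl (Or.inl ⟨w, Set.mem_iInter.2 hno, rfl⟩))
  have hTag : ∀ w, h w ∈ X.Z.basicOpen φ → ∀ k l, w ∈ T k → w ∈ T l → a k - a l ∈ locRing M w := fun w hw k l hk hl => by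
    by_contra hno
    exact hφle hw (Or.inl (Or.inr (Set.mem_iUnion.2 ⟨k, Set.mem_iUnion.2 ⟨l, w, subset_closure ⟨hno, hk, hl⟩, rfl⟩⟩)))
  let g₁ : M.Z → KK := fun w => if hk : ∃ k, w ∈ T k then a hk.choose else 0
  have hg₁ : ∀ w, h w ∈ X.Z.basicOpen φ → ∀ k, w ∈ T k → a k - g₁ w ∈ locRing M w := fun w hw k hk => by
    have hex : ∃ k, w ∈ T k := ⟨k, hk⟩
    simp only [g₁, dif_pos hex]
    exact hTag w hw k _ hk hex.choose_spec
  have hg₁' : ∀ w, h w ∈ X.Z.basicOpen φ → ∀ᶠ y in 𝓝 w, g₁ w - g₁ y ∈ locRing M y := fun w hw => by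
    obtain ⟨k, hk⟩ := hTcov w hw
    filter_upwards [(hTo k).mem_nhds hk, ((X.Z.basicOpen φ).isOpen.preimage h.continuous).mem_nhds hw,
      openMem_locRing M w _ (hg₁ w hw k hk)] with y hy hyφ hy'
    have := sub_mem (hg₁ y hyφ k hy) hy'
    rwa [sub_sub_sub_cancel_left] at this
  -- extension to the affine piece
  obtain ⟨d, hd⟩ := solve_affine M (D := h ⁻¹ᵁ X.Z.basicOpen (φ * ψ))
    (haff _ (hV.basicOpen _) fun x hx => by
      rw [X.Z.basicOpen_mul] at hx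
      exact ⟨hx.1, fun e => hzψ (e ▸ hx.2)⟩) g₁ fun w hw => (hg₁' w (by
      have hx : h w ∈ X.Z.basicOpen (φ * ψ) := hw
      rw [X.Z.basicOpen_mul] at hx
      exact hx.1)).mono fun y hy _ => hy
  have hd' : ∀ y, h y ∈ X.Z.basicOpen φ → h y ∈ X.Z.basicOpen ψ → d - g₁ y ∈ locRing M y := fun y h1 h2 =>
    hd y (show h y ∈ X.Z.basicOpen (φ * ψ) by rw [X.Z.basicOpen_mul]; exact ⟨h1, h2⟩)
  -- solution over the overlap with the second piece
  have hVW : IsAffineOpen (V ⊓ W) := hV.inf hW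
  obtain ⟨d', hd'1⟩ := solve_affine M (D := h ⁻¹ᵁ (X.Z.basicOpen φ ⊓ W))
    (haff _ ((hV.basicOpen φ).inf hW) fun x hx => ⟨hx.1, fun e => hzW (e ▸ hx.2)⟩) g₁
    fun w hw => (hg₁' w hw.1).mono fun y hy _ => hy
  obtain ⟨d₂, hd₂φ, hd₂ψ⟩ : ∃ d₂, (∀ y, h y ∈ X.Z.basicOpen φ → h y ∈ W → d₂ - g₁ y ∈ locRing M y) ∧
      ∀ y, h y ∈ X.Z.basicOpen ψ → h y ∈ W → d₂ - d ∈ locRing M y := by
    rcases ((X.Z.basicOpen φ ⊓ X.Z.basicOpen ψ ⊓ W : X.Z.Opens) : Set X.Z).eq_empty_or_nonempty with he | ⟨x₀, hx₀⟩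
    · rcases ((X.Z.basicOpen φ ⊓ W : X.Z.Opens) : Set X.Z).eq_empty_or_nonempty with he' | ⟨x₁, hx₁⟩
      · exact ⟨d, fun y h1 h2 => absurd (he'.subset (show h y ∈ X.Z.basicOpen φ ⊓ W from ⟨h1, h2⟩))
          (Set.notMem_empty _), fun y _ _ => by rw [sub_self]; exact zero_mem _⟩
      · refine ⟨d', fun y h1 h2 => hd'1 y ⟨h1, h2⟩, fun y h1 h2 => absurd (he.subset
          (show genericPoint X.Z ∈ X.Z.basicOpen φ ⊓ X.Z.basicOpen ψ ⊓ W from ⟨⟨generic_mem X hx₁.1,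
            generic_mem X h1⟩, generic_mem X h2⟩)) (Set.notMem_empty _)⟩
    · have hg2 : genericPoint X.Z ∈ V ⊓ W := ⟨hgV, generic_mem X hx₀.2⟩
      let φ' : Γ(X.Z, V ⊓ W) := X.Z.presheaf.map (homOfLE (inf_le_left : V ⊓ W ≤ V)).op φ
      let ψ' : Γ(X.Z, V ⊓ W) := X.Z.presheaf.map (homOfLE (inf_le_left : V ⊓ W ≤ V)).op ψ
      have hφ' : φ' ≠ 0 := fun h0 => by
        have h1 : genericPoint X.Z ∈ X.Z.basicOpen φ' := by
          rw [Scheme.basicOpen_res]; exact ⟨hg2, generic_mem X hx₀.1.1⟩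
        rw [h0, Scheme.basicOpen_zero] at h1
        exact h1
      have hψ' : ψ' ≠ 0 := fun h0 => by
        have h1 : genericPoint X.Z ∈ X.Z.basicOpen ψ' := by
          rw [Scheme.basicOpen_res]; exact ⟨hg2, generic_mem X hx₀.1.2⟩
        rw [h0, Scheme.basicOpen_zero] at h1
        exact h1
      obtain ⟨p, q, hpq, hp, hq⟩ := exists_split X hVW hg2 φ' ψ' hφ' hψ' (hcob.map _) (d' - d) fun x hx hxφ hxψ => by
        rw [Scheme.basicOpen_res] at hxφ hxψ
        obtain ⟨y, hy, hxy⟩ : ∃ y, IsIso (h.stalkMap y) ∧ h y = x := by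
          have hsurj : x ∈ Set.range h := h.isClosedMap.isClosed_range.closure_subset_iff.2
            (Set.singleton_subset_iff.2 ⟨_, hgen⟩) (by rw [(genericPoint_spec X.Z).def]; trivial)
          obtain ⟨y, rfl⟩ := hsurj
          exact ⟨y, hgood (h y) hxφ.2 (fun e => hzW (e ▸ hx.2)) y rfl, rfl⟩
        haveI := hy
        subst hxy
        rw [← locRing_comp_eq h hgen hbir y]
        have := sub_mem (hd'1 y ⟨hxφ.2, hx.2⟩) (hd' y hxφ.2 hxψ.2)
        rwa [sub_sub_sub_cancel_right] at this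
      refine ⟨d' - p, fun y h1 h2 => ?_, fun y h1 h2 => ?_⟩
      · rw [sub_right_comm]
        refine sub_mem (hd'1 y ⟨h1, h2⟩) (locRing_comp_le h hgen hbir y (hp _ ⟨X.Z.basicOpen_le φ h1, h2⟩ ?_))
        rw [Scheme.basicOpen_res]; exact ⟨⟨X.Z.basicOpen_le φ h1, h2⟩, h1⟩
      · rw [show d' - p - d = -q by linear_combination hpq]
        refine neg_mem (locRing_comp_le h hgen hbir y (hq _ ⟨X.Z.basicOpen_le ψ h1, h2⟩ ?_))
        rw [Scheme.basicOpen_res]; exact ⟨⟨X.Z.basicOpen_le ψ h1, h2⟩, h1⟩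
  -- the global datum
  let g : M.Z → KK := fun w =>
    if h w ∈ V then (if h w ∈ X.Z.basicOpen φ then g₁ w else d) else d₂
  have hg : IsDatum (locRing M) g := fun w => by
    by_cases hwV : h w ∈ V
    · by_cases hwφ : h w ∈ X.Z.basicOpen φ
      · filter_upwards [hg₁' w hwφ, ((X.Z.basicOpen φ).isOpen.preimage h.continuous).mem_nhds hwφ] with y hy hyφ
        simp only [g, if_pos hwV, if_pos hwφ, if_pos (X.Z.basicOpen_le φ hyφ), if_pos hyφ]
        rw [if_pos (show h y ∈ X.Z.basicOpen φ from hyφ)]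
        exact hy
      · have hwψ := (hφψ _ hwV).resolve_left hwφ
        filter_upwards [((X.Z.basicOpen ψ).isOpen.preimage h.continuous).mem_nhds hwψ] with y hyψ
        simp only [g, if_pos hwV, if_neg hwφ]
        rw [if_pos (X.Z.basicOpen_le ψ hyψ)]
        split_ifs with hyφ
        · exact hd' y hyφ hyψ
        · rw [sub_self]; exact zero_mem _
    · have hwW := (hcov _).resolve_left hwV
      filter_upwards [(W.isOpen.preimage h.continuous).mem_nhds hwW] with y hyW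
      simp only [g, if_neg hwV]
      split_ifs with hyV hyφ
      · exact hd₂φ y hyφ hyW
      · exact hd₂ψ y ((hφψ _ hyV).resolve_left hyφ) hyW
      · rw [sub_self]; exact zero_mem _
  obtain ⟨h₀, hh₀⟩ := hsol g hg
  refine ⟨h₀, fun U hU k hk => ?_⟩
  obtain ⟨w, hw⟩ := exists_ctr M U fun r => hU (RatSing.map_mem_locRing X z r)
  obtain ⟨z', hz', hctr⟩ := exists_ctr_specializes X U hU
  have hwz : h w ⤳ z := Ctr.unique X (Ctr.map_hom h hgen hbir hw) hctr ▸ hz'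
  have hwV : h w ∈ V := hwz.mem_open V.isOpen hzV
  have hwT : w ∈ T k := ⟨fun e he => hw.mem (hdec k e he) (hk e he), hwV⟩
  have hwφ : h w ∈ X.Z.basicOpen φ := hwz.mem_open (X.Z.basicOpen φ).isOpen hzφ
  have h1 := hh₀ w
  simp only [g, if_pos hwV, if_pos hwφ] at h1
  have h2 := sub_mem h1 (hg₁ w hwφ k hwT)
  rw [sub_sub_sub_cancel_right] at h2
  exact hw.1 h2

/-- Local rings of a normalised pair blow-up above the closed point have solvable valuation data. -/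
theorem ratVal_locRing (hsol : ∀ M : Model (Spec R), IsProper M.G → Nice M.Z → Sol (locRing M))
    (X : Model (Spec R)) (hX : Nice X.Z) [IsProper X.G] {V W : X.Z.Opens} (hV : IsAffineOpen V)
    (hW : IsAffineOpen W) (hcov : ∀ w, w ∈ V ∨ w ∈ W) {z : X.Z} (hzV : z ∈ V) (hzW : z ∉ W)
    (hz : IsClosed ({z} : Set X.Z)) : RatVal (locRing X z) := by
  classical
  intro n E a hcovE hag
  obtain ⟨Y, h, hYi, hgen, hbir, hY, hP, hdec⟩ := exists_dec X hX (Finset.univ.biUnion E)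
  haveI := hYi
  haveI := hP
  exact exists_value X hX hV hW hcov hzV hzW hz E a hcovE hag h hgen hbir hY
    (fun k e he => hdec e (Finset.mem_biUnion.2 ⟨k, Finset.mem_univ k, he⟩))
    (hsol _ (inferInstanceAs (IsProper (h ≫ X.G))) hY)

end Groth.Agent.RatUp
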