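import Mathlib
import Groth.Agent.RatUp.Extend
import Groth.Agent.RatSing.Rational

/-!
# Rational singularities and solvable valuation data
-/

set_option autoImplicit false
set_option linter.style.haveILetI false
set_option linter.unusedSectionVars false
set_option backward.isDefEq.respectTransparency false
set_option backward.isDefEq.respectTransparency.types false
set_option maxHeartbeats 400000

universe u

open CategoryTheory CategoryTheory.Limits AlgebraicGeometry TopologicalSpace IsLocalRing Filter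
open scoped Topology
open Groth.Agent.NormSeq (Model locRing Nice)
open Groth.Agent.Sol

noncomputable section

namespace Groth.Agent.RatUp

variable {R : CommRingCat.{u}} [IsDomain R]

local notation "KK" => Scheme.functionField (Spec R)
local notation "ι" => algebraMap R (Scheme.functionField (Spec R))

/-- A proper birational morphism to a nice scheme is an isomorphism over a nonempty open. -/
theorem exists_isIso_restrict {X Y : Scheme.{u}} [IsIntegral X] [IsIntegral Y] (hY : Nice Y)
    (f : X ⟶ Y) [IsProper f] (hbir : IsIso (f.stalkMap (genericPoint X))) :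
    ∃ U : Y.Opens, (U : Set Y).Nonempty ∧ IsIso (f ∣_ U) := by
  haveI := hY.noeth
  obtain ⟨hfin, hpt⟩ := finite_bad hY f hbir
  let U : Y.Opens := ⟨(f '' {w | ¬ IsIso (f.stalkMap w)})ᶜ, by
    rw [isOpen_compl_iff, ← Set.biUnion_of_singleton (f '' _)]
    exact hfin.isClosed_biUnion hpt⟩
  have hne : (U : Set Y).Nonempty := by
    refine ⟨genericPoint Y, ?_⟩
    rintro ⟨w, hw, hwg⟩
    refine hw (isIso_of_dim_le_one_normal f hbir w (hY.normal _).2 ?_)
    rw [hwg]
    exact ((ringKrullDim_eq_zero_of_field Y.functionField).le).trans zero_le_one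
  refine ⟨U, hne, Sol.isIso_restrict_of_stalk f hbir U hne fun x hx => ?_⟩
  by_contra hn
  exact hx ⟨x, hn, rfl⟩

/-- Models of a rational singularity have solvable data. -/
theorem sol_of_isRationalSing (hR : Nice (Spec R)) (hA : Curv2.IsRationalSing R) :
    ∀ M : Model (Spec R), IsProper M.G → Nice M.Z → Sol (locRing M) := fun M hP hM =>
  (sol_locRing_iff M).2 (sol_of_hh (hA M.Z M.G hP M.integral hM.normal
    (haveI := hP; exists_isIso_restrict hR M.G M.bir)))

/-- Solvable valuation data give vanishing on every modification. -/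
theorem isRationalSing_of_ratVal (hB : RatVal (algebraMap R (Spec R).functionField).range) :
    Curv2.IsRationalSing R := by
  classical
  intro Y f hf hYi hYn hbir
  haveI := hf
  haveI := hYi
  obtain ⟨hgen, hb⟩ := RatSing.birational_of_isIso f hbir
  let N : Model (Spec R) := { Z := Y, G := f, gen := hgen, bir := hb }
  haveI : IsProper N.G := hf
  haveI : IsSeparated N.G := inferInstance
  refine hh_of_sol ((sol_locRing_iff N).1 ?_)
  intro g hg
  haveI : CompactSpace N.Z := QuasiCompact.compactSpace_of_compactSpace f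
  have hloc : ∀ y : N.Z, ∃ U : N.Z.Opens, IsAffineOpen U ∧ y ∈ U ∧ ∀ y' ∈ U, g y - g y' ∈ locRing N y' := fun y => by
    obtain ⟨W, hW, hWo, hyW⟩ := eventually_nhds_iff.1 (hg y)
    obtain ⟨U, hU, hyU, hle⟩ := exists_isAffineOpen_mem_and_subset (x := y) (U := ⟨W, hWo⟩) hyW
    exact ⟨U, hU, hyU, fun y' hy' => hW y' (hle hy')⟩
  choose U hU hyU hgood using hloc
  obtain ⟨t, ht⟩ := isCompact_univ.elim_finite_subcover (fun y => (U y : Set N.Z)) (fun y => (U y).isOpen)
    fun y _ => Set.mem_iUnion.2 ⟨y, hyU y⟩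
  have hgenU : ∀ y, genericPoint N.Z ∈ U y := fun y => generic_mem N (hyU y)
  have hev : ∀ y r, ev N (hgenU y) (BlowUpLib.strHom (A := R) N.G (U y) r) = ι r := fun y r => by
    show N.toKHom _ (N.Z.presheaf.germ (U y) _ (hgenU y) _) = _
    rw [RatSing.germ_strHom N (hgenU y), RatSing.toK_strStalk]
  have hft : ∀ y, ∃ s : Finset Γ(N.Z, U y),
      ∀ V : ValuationSubring KK, (algebraMap R KK).range ≤ V.toSubring →
        (∀ e ∈ s, ev N (hgenU y) e ∈ V) → ∀ e, ev N (hgenU y) e ∈ V := fun y => by
    have hfin : (BlowUpLib.strHom (A := R) N.G (U y)).FiniteType := by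
      refine RingHom.FiniteType.comp (f := (Scheme.ΓSpecIso R).inv.hom)
        (N.G.finiteType_appLE (isAffineOpen_top _) (hU y) le_top) ?_
      exact RingHom.FiniteType.of_surjective _ (ConcreteCategory.bijective_of_isIso (Scheme.ΓSpecIso R).inv).2
    letI := (BlowUpLib.strHom (A := R) N.G (U y)).toAlgebra
    haveI : Algebra.FiniteType R Γ(N.Z, U y) := hfin
    obtain ⟨s, hs⟩ := (Algebra.FiniteType.out : (⊤ : Subalgebra R Γ(N.Z, U y)).FG)
    refine ⟨s, fun V hV he e => ?_⟩
    have hmem : e ∈ Algebra.adjoin R (s : Set Γ(N.Z, U y)) := by rw [hs]; trivial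
    induction hmem using Algebra.adjoin_induction with
    | mem x hx => exact he x hx
    | algebraMap r => exact hV ⟨r, (hev y r).symm⟩
    | add x x' _ _ hx hx' => rw [map_add]; exact add_mem hx hx'
    | mul x x' _ _ hx hx' => rw [map_mul]; exact mul_mem hx hx'
  choose s hs using hft
  let p : Fin t.card → N.Z := fun k => (t.equivFin.symm k).1
  let E : Fin t.card → Finset KK := fun k => (s (p k)).image (ev N (hgenU (p k)))
  have hEmem : ∀ V : ValuationSubring KK, (algebraMap R KK).range ≤ V.toSubring → ∀ k,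
      (∀ e ∈ E k, e ∈ V) → ∃ y ∈ U (p k), Ctr N V y := fun V hV k hk => by
    have hall := hs (p k) V hV fun e he => hk _ (Finset.mem_image_of_mem _ he)
    let i : Γ(N.Z, U (p k)) ⟶ CommRingCat.of V :=
      CommRingCat.ofHom ((ev N (hgenU (p k))).codRestrict V.toSubring hall)
    refine ⟨_, ?_, ctr_of_lift N V (Spec.map i ≫ (hU (p k)).fromSpec) ?_⟩
    · show _ ∈ (U (p k) : Set N.Z)
      rw [← (hU (p k)).range_fromSpec]
      exact ⟨_, rfl⟩
    · have hi : i ≫ CommRingCat.ofHom V.subtype =
          N.Z.presheaf.germ (U (p k)) _ (hgenU (p k)) ≫ N.toKHom (genericPoint N.Z) := rfl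
      rw [← Spec.map_comp_assoc, hi, Spec.map_comp, Category.assoc, ← N.spec_toK (genericPoint N.Z)]
      congr 1
      exact (hU (p k)).fromSpecStalk_eq_fromSpecStalk (hgenU (p k))
  have hcover : ∀ y, ∃ k, y ∈ U (p k) := fun y => by
    obtain ⟨y', hy', hy''⟩ := Set.mem_iUnion₂.1 (ht (Set.mem_univ y))
    exact ⟨t.equivFin ⟨y', hy'⟩, by simp only [p, Equiv.symm_apply_apply]; exact hy''⟩
  have hEO : ∀ y k, y ∈ U (p k) → ∀ e ∈ E k, e ∈ locRing N y := fun y k hy e he => by
    obtain ⟨x, -, rfl⟩ := Finset.mem_image.1 he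
    exact ev_mem N (hgenU (p k)) hy x
  obtain ⟨h, hh⟩ := hB t.card E (fun k => g (p k)) (fun V hV => by
      obtain ⟨y, hy⟩ := exists_ctr N V fun r => hV ⟨r, rfl⟩
      obtain ⟨k, hk⟩ := hcover y
      exact ⟨k, fun e he => hy.1 (hEO y k hk e he)⟩) fun V hV k l hk hl => by
      obtain ⟨y, hy, hyc⟩ := hEmem V hV k hk
      obtain ⟨y', hy', hyc'⟩ := hEmem V hV l hl
      obtain rfl := Ctr.unique N hyc hyc'
      have h1 := sub_mem (hgood _ y hy) (hgood _ y hy')
      rw [sub_sub_sub_cancel_right] at h1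
      exact hyc.1 h1
  refine ⟨h, fun y => mem_locRing_of_forall N y (hYn y).2 _ fun V hV => ?_⟩
  obtain ⟨k, hk⟩ := hcover y
  have hBV : (algebraMap R KK).range ≤ V.toSubring := by
    rintro _ ⟨r, rfl⟩
    exact hV (RatSing.map_mem_locRing N y r)
  have h1 := add_mem (hh V hBV k fun e he => hV (hEO y k hk e he)) (hV (hgood (p k) y hk))
  rwa [sub_add_sub_cancel] at h1

/-- Transport of solvable valuation data along field isomorphisms. -/
theorem RatVal.map {K L : Type u} [Field K] [Field L] (e : K ≃+* L) {B : Subring K} {B' : Subring L}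
    (hB : ∀ c, c ∈ B ↔ e c ∈ B') (h : RatVal B) : RatVal B' := by
  classical
  intro n E a h1 h2
  have key : ∀ V : ValuationSubring K, B ≤ V.toSubring → B' ≤ (V.comap e.symm.toRingHom).toSubring :=
    fun V hV c hc => hV ((hB (e.symm c)).2 (by rw [RingEquiv.apply_symm_apply]; exact hc))
  obtain ⟨r, hr⟩ := h n (fun k => (E k).image e.symm) (fun k => e.symm (a k))
    (fun V hV => by
      obtain ⟨k, hk⟩ := h1 _ (key V hV)
      refine ⟨k, fun x hx => ?_⟩
      obtain ⟨y, hy, rfl⟩ := Finset.mem_image.1 hx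
      exact hk y hy)
    (fun V hV k l hk hl => by
      have h3 := h2 _ (key V hV) k l (fun y hy => hk _ (Finset.mem_image_of_mem _ hy))
        (fun y hy => hl _ (Finset.mem_image_of_mem _ hy))
      rw [← map_sub]
      exact h3)
  refine ⟨e r, fun V hV k hk => ?_⟩
  have h4 := hr (V.comap e.toRingHom) (fun c hc => hV ((hB c).1 hc)) k fun x hx => by
    obtain ⟨y, hy, rfl⟩ := Finset.mem_image.1 hx
    show e (e.symm y) ∈ V
    rw [RingEquiv.apply_symm_apply]
    exact hk y hy
  change e (r - e.symm (a k)) ∈ V at h4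
  rwa [map_sub, RingEquiv.apply_symm_apply] at h4

end Groth.Agent.RatUp
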