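import Mathlib
import Groth.Agent.RatUp.Rational
import Groth.Agent.RatUp.Centre
import Groth.Agent.RatSing.BlowNormal
import Groth.Agent.NormSeq.FinScheme

/-!
# Rationality goes up along birational extensions
-/

set_option autoImplicit false
set_option linter.style.haveILetI false
set_option linter.unusedSectionVars false
set_option backward.isDefEq.respectTransparency false
set_option backward.isDefEq.respectTransparency.types false
set_option maxHeartbeats 400000

universe u

open CategoryTheory CategoryTheory.Limits AlgebraicGeometry TopologicalSpace IsLocalRing Polynomial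
open Groth.Agent.NormSeq (Model locRing Nice)

noncomputable section

namespace Groth.Agent.RatUp

/-- Rational singularities are invariant under isomorphisms of rings. -/
theorem isRationalSing_of_ringEquiv {A B : Type u} [CommRing A] [CommRing B] (e : A ≃+* B)
    (h : Curv2.IsRationalSing A) : Curv2.IsRationalSing B := by
  intro X f hf hXi hXn hU
  let eS : Spec (CommRingCat.of B) ⟶ Spec (CommRingCat.of A) := Spec.map e.toCommRingCatIso.hom
  haveI : IsIso eS := inferInstanceAs (IsIso (Spec.map e.toCommRingCatIso.hom))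
  refine h X (f ≫ eS) inferInstance hXi hXn ?_
  obtain ⟨U, ⟨v, hv⟩, hiso⟩ := hU
  haveI := hiso
  let U' : (Spec (CommRingCat.of A)).Opens := inv eS ⁻¹ᵁ U
  have hpre : eS ⁻¹ᵁ U' = U := by
    show eS ⁻¹ᵁ (inv eS ⁻¹ᵁ U) = U
    rw [← Scheme.Hom.comp_preimage, IsIso.hom_inv_id]
    rfl
  refine ⟨U', ⟨eS v, show inv eS (eS v) ∈ U by rw [← Scheme.Hom.comp_apply, IsIso.hom_inv_id]; exact hv⟩, ?_⟩
  rw [morphismRestrict_comp]
  have : IsIso (f ∣_ eS ⁻¹ᵁ U') := by rw [hpre]; exact hiso
  infer_instance

section Subring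

variable {A : CommRingCat.{u}} {B : Type u} [CommRing B] [IsDomain A] [IsDomain B] [Algebra A B]

/-- An embedding of a birational extension into the function field. -/
theorem exists_embedding (hinj : Function.Injective (algebraMap A B))
    (hfrac : ∀ b : B, ∃ a a' : A, a' ≠ 0 ∧ algebraMap A B a' * b = algebraMap A B a) :
    ∃ j : B →+* (Spec A).functionField, Function.Injective j ∧
      ∀ a : A, j (algebraMap A B a) = algebraMap (A) (Spec A).functionField a := by
  let L := FractionRing B
  have hij : Function.Injective (algebraMap A L) := by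
    rw [IsScalarTower.algebraMap_eq A B L]
    exact (IsFractionRing.injective B L).comp hinj
  haveI : FaithfulSMul (A) L := (faithfulSMul_iff_algebraMap_injective _ _).2 hij
  haveI : IsFractionRing (A) L := by
    refine IsFractionRing.of_field _ _ fun z => ?_
    obtain ⟨p, q, hq, hpq⟩ := IsFractionRing.div_surjective (A := B) z
    obtain ⟨a, a', ha', hp⟩ := hfrac p
    obtain ⟨b, b', hb', hq'⟩ := hfrac q
    refine ⟨(a * b' : A), (b * a' : A), ?_⟩
    rw [IsScalarTower.algebraMap_eq A B L]
    show z = algebraMap B L (algebraMap A B (a * b')) / algebraMap B L (algebraMap A B (b * a'))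
    have hne : ∀ x : A, x ≠ 0 → algebraMap B L (algebraMap A B x) ≠ 0 := fun x hx h0 =>
      hx (hij (h0.trans (map_zero _).symm))
    have hq0 : algebraMap B L q ≠ 0 := (map_ne_zero_iff _ (IsFractionRing.injective B L)).2 (nonZeroDivisors.ne_zero hq)
    simp only [map_mul]
    rw [← hp, ← hq', map_mul, map_mul, ← hpq]
    rw [div_eq_div_iff hq0 (mul_ne_zero (mul_ne_zero (hne b' hb') hq0) (hne a' ha'))]
    ring
  let φ := IsLocalization.algEquiv (nonZeroDivisors (A)) L (Spec A).functionField
  exact ⟨(φ : L →+* _).comp (algebraMap B L), φ.injective.comp (IsFractionRing.injective B L),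
    fun a => (congrArg φ (IsScalarTower.algebraMap_apply A B L a).symm).trans (φ.commutes a)⟩

/-- An integrally closed local subring with a dominating valuation ring. -/
theorem exists_dominated [IsLocalRing B] [IsIntegrallyClosed B]
    (j : B →+* (Spec A).functionField)
    (hj : Function.Injective j)
    (hA : ∀ a : A, j (algebraMap A B a) = algebraMap (A) (Spec A).functionField a) :
    ∃ U, Dominated (R := A) j.range U := by
  haveI : IsLocalRing j.range := IsLocalRing.of_surjective' j.rangeRestrict j.rangeRestrict_surjective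
  let L : LocalSubring (Spec A).functionField := LocalSubring.mk j.range
  obtain ⟨U, hle, hloc⟩ := L.exists_le_valuationSubring
  haveI := hloc
  refine ⟨U, fun a => ⟨algebraMap A B a, hA a⟩, hle, fun b hb hinv => ?_, fun c hc => ?_⟩
  · by_cases h0 : b = 0
    · rw [h0, inv_zero]; exact zero_mem _
    have hu : IsUnit ((Subring.inclusion hle) (⟨b, hb⟩ : j.range)) :=
      IsUnit.of_mul_eq_one (⟨b⁻¹, hinv⟩ : U.toSubring) (Subtype.ext (mul_inv_cancel₀ h0))
    obtain ⟨u, hu'⟩ := (hu.of_map (Subring.inclusion hle) _).exists_right_inv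
    rw [show b⁻¹ = u.1 from (eq_inv_of_mul_eq_one_right (congrArg Subtype.val hu')).symm]
    exact u.2
  · by_contra hn
    haveI : IsIntegrallyClosedIn j.range (Spec A).functionField := by
      rw [Subring.isIntegrallyClosedIn_iff]
      intro x hx
      obtain ⟨p, hp, hpx⟩ := hx
      obtain ⟨P, hP, -, hPm⟩ := Polynomial.lifts_and_degree_eq_and_monic (f := j.rangeRestrict)
        (Polynomial.mem_lifts_of_surjective j.rangeRestrict_surjective p) hp
      letI := j.toAlgebra
      haveI : FaithfulSMul B (Spec A).functionField :=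
        (faithfulSMul_iff_algebraMap_injective _ _).2 hj
      haveI : IsFractionRing B (Spec A).functionField := by
        refine IsFractionRing.of_field _ _ fun z => ?_
        obtain ⟨a, a', -, h⟩ := IsFractionRing.div_surjective (A := A) z
        exact ⟨algebraMap A B a, algebraMap A B a', by
          show z = j _ / j _
          rw [hA, hA]; exact h.symm⟩
      have h1 : IsIntegral B x := ⟨P, hPm, by rw [← hpx, ← hP, Polynomial.eval₂_map]; rfl⟩
      obtain ⟨y, hy⟩ := IsIntegrallyClosed.isIntegral_iff.1 h1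
      exact ⟨y, hy⟩
    obtain ⟨V, hV, hcV⟩ := Subring.exists_le_valuationSubring_of_isIntegrallyClosedIn hn
    exact hcV (hc V hV)

end Subring

section Step

variable {R : CommRingCat.{u}} [IsDomain R]

local notation "KK" => Scheme.functionField (Spec R)
local notation "ι" => algebraMap R (Scheme.functionField (Spec R))

/-- The local ring of the centre as a rational singularity below the subring. -/
theorem exists_step [IsLocalRing R] [IsIntegrallyClosed R] (hR : Nice (Spec R)) (hA : Curv2.IsRationalSing R) {B : Subring KK}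
    {U : ValuationSubring KK} (hB : Dominated B U) (hdim : ringKrullDim B = 2)
    (hloc : ∀ a ∈ maximalIdeal R, ι a ≠ 0 → (ι a)⁻¹ ∉ B) {c : KK} (hc : c ∈ B) (hc' : c ∉ (ι).range) :
    ∃ (X : Model (Spec R)) (z : X.Z), LocallyOfFiniteType X.G ∧ Nice X.Z ∧ locRing X z ≤ B ∧ c ∈ locRing X z ∧
      (∀ x ∈ locRing X z, x⁻¹ ∈ B → x⁻¹ ∈ locRing X z) ∧
      ringKrullDim (X.Z.presheaf.stalk z) = 2 ∧ RatVal (locRing X z) := by
  have hι : ∀ a, ι a ∈ U := fun a => hB.le (hB.base a)
  have hc0 : c ≠ 0 := fun h => hc' (h ▸ zero_mem _)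
  obtain ⟨X, V, W, hX, hP, hV, hW, hVc, hWc, hdec⟩ := exists_twoChart hR c hc0
  haveI := hP
  obtain ⟨z, hz⟩ := exists_ctr X U hι
  have hle := centre_le hB X hdec hc hV hVc hz
  obtain ⟨-, hzc⟩ := isClosed_centre hB X hX hz hle hdim
  obtain ⟨P, hPm, hPd, hPn⟩ := exists_monic_nonunit X hX hzc (fun a ha h0 h => hloc a ha h0 (hle h))
    ((hVc z).1 ((hVc z).2 (hz.mem hdec (hB.le hc))))
  set c₂ := P.eval₂ ι c with hc₂
  have hc₂B : c₂ ∈ B := by
    rw [hc₂, Polynomial.eval₂_eq_sum]
    exact Subring.sum_mem _ fun i _ => mul_mem (hB.base _) (pow_mem hc i)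
  have hc₂0 : c₂ ≠ 0 := fun h0 => hc' (by
    obtain ⟨y, hy⟩ := IsIntegrallyClosed.isIntegral_iff.1 (⟨P, hPm, h0⟩ : IsIntegral R c)
    exact ⟨y, hy⟩)
  obtain ⟨X₂, V₂, W₂, hX₂, hP₂, hV₂, hW₂, hVc₂, hWc₂, hdec₂⟩ := exists_twoChart hR c₂ hc₂0
  haveI := hP₂
  obtain ⟨z₂, hz₂⟩ := exists_ctr X₂ U hι
  have hle₂ := centre_le hB X₂ hdec₂ hc₂B hV₂ hVc₂ hz₂
  obtain ⟨hd₂, hzc₂⟩ := isClosed_centre hB X₂ hX₂ hz₂ hle₂ hdim
  have hzV : z₂ ∈ V₂ := (hVc₂ z₂).2 (hz₂.mem hdec₂ (hB.le hc₂B))
  have hzW : z₂ ∉ W₂ := fun h => by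
    have h1 : c₂⁻¹ ∈ B := hle₂ ((hWc₂ z₂).1 h)
    exact hPn hc₂0 (hz.2 _ (by
      rw [hc₂, Polynomial.eval₂_eq_sum]
      exact Subring.sum_mem _ fun i _ => mul_mem (RatSing.map_mem_locRing X z _)
        (pow_mem (hz.mem hdec (hB.le hc)) i)) (hB.le h1))
  refine ⟨X₂, z₂, inferInstance, hX₂, hle₂, ?_, fun x hx hxB => hz₂.2 x hx (hB.le hxB), hd₂,
    ratVal_locRing (sol_of_isRationalSing hR hA) X₂ hX₂ hV₂ hW₂ (fun w => ?_) hzV hzW hzc₂⟩
  · refine mem_locRing_of_forall X₂ z₂ (hX₂.normal z₂).2 c fun V hV => ?_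
    by_contra hcV
    have hv : c⁻¹ ∈ V := (V.mem_or_inv_mem c).resolve_left hcV
    have hc₂V : c₂ ∈ V := hV ((hVc₂ z₂).1 hzV)
    let f : R →+* V := (algebraMap R KK).codRestrict V.toSubring fun a => hV (RatSing.map_mem_locRing X₂ z₂ a)
    have hint : IsIntegral V c := by
      refine ⟨P.map f - Polynomial.C ⟨c₂, hc₂V⟩, (hPm.map _).sub_of_left ?_, ?_⟩
      · refine lt_of_le_of_lt Polynomial.degree_C_le ?_
        rw [hPm.degree_map, Polynomial.degree_eq_natDegree hPm.ne_zero]
        exact_mod_cast hPd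
      · rw [Polynomial.eval₂_sub, Polynomial.eval₂_map]
        erw [Polynomial.eval₂_C]
        exact sub_self _
    obtain ⟨y, hy⟩ := IsIntegrallyClosed.isIntegral_iff.1 hint
    exact hcV (hy ▸ y.2)
  · exact (hdec₂ w).imp (hVc₂ w).2 (hWc₂ w).2

end Step

section Main

/-- Rationality goes up, by induction on the number of generators. -/
theorem isRationalSing_up (n : ℕ) : ∀ (A : CommRingCat.{u}) (B : Type u) [CommRing B] [IsDomain A] [IsDomain B]
    [IsLocalRing A] [IsLocalRing B] [IsNoetherianRing A] [IsIntegrallyClosed A], NormSeq.FinBir A →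
    ringKrullDim A = 2 → Curv2.IsRationalSing A → ∀ [Algebra A B] [IsLocalHom (algebraMap A B)],
    Function.Injective (algebraMap A B) →
    (∀ b : B, ∃ a a' : A, a' ≠ 0 ∧ algebraMap A B a' * b = algebraMap A B a) →
    ∀ [IsIntegrallyClosed B], ringKrullDim B = 2 → ∀ s : Finset B, s.card ≤ n →
    (∀ b : B, ∃ p ∈ Algebra.adjoin A (s : Set B), ∃ q ∈ Algebra.adjoin A (s : Set B), IsUnit q ∧ b * q = p) →
    Curv2.IsRationalSing B := by
  classical
  induction n with
  | zero =>
    intro A B _ _ _ _ _ _ _ hN hdimA hA _ _ hinj hfrac _ hdimB s hs hgen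
    obtain rfl : s = ∅ := Finset.card_eq_zero.1 (Nat.le_zero.1 hs)
    refine isRationalSing_of_ringEquiv (RingEquiv.ofBijective (algebraMap A B) ⟨hinj, fun b => ?_⟩) hA
    obtain ⟨p, hp, q, hq, hu, hbq⟩ := hgen b
    rw [Finset.coe_empty, Algebra.adjoin_empty, Algebra.mem_bot] at hp hq
    obtain ⟨p', rfl⟩ := hp
    obtain ⟨q', rfl⟩ := hq
    obtain ⟨v, hv⟩ := (IsUnit.of_map (algebraMap A B) q' hu).exists_right_inv
    exact ⟨p' * v, by rw [map_mul, ← hbq, mul_assoc, ← map_mul, hv, map_one, mul_one]⟩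
  | succ n ih =>
    intro A B _ _ _ _ _ _ _ hN hdimA hA _ _ hinj hfrac _ hdimB s hs hgen
    by_cases hsub : ∀ c ∈ s, c ∈ (algebraMap A B).range
    · refine ih A B hN hdimA hA hinj hfrac hdimB ∅ (Nat.zero_le _) fun b => ?_
      have hle : Algebra.adjoin A (s : Set B) ≤ Algebra.adjoin A ((∅ : Finset B) : Set B) := by
        refine Algebra.adjoin_le fun c hc => ?_
        obtain ⟨a, rfl⟩ := hsub c hc
        exact Subalgebra.algebraMap_mem _ a
      obtain ⟨p, hp, q, hq, h⟩ := hgen b
      exact ⟨p, hle hp, q, hle hq, h⟩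
    push Not at hsub
    obtain ⟨c, hcs, hcA⟩ := hsub
    have hR := NormSeq.nice_of_finBir (R := A) hN hdimA.le
    obtain ⟨j, hj, hjA⟩ := exists_embedding hinj hfrac
    obtain ⟨U, hU⟩ := exists_dominated j hj hjA
    let eB : B ≃+* j.range :=
      RingEquiv.ofBijective j.rangeRestrict ⟨fun a b h => hj (congrArg Subtype.val h), j.rangeRestrict_surjective⟩
    have hloc : ∀ a ∈ maximalIdeal A, algebraMap A (Spec A).functionField a ≠ 0 →
        (algebraMap A (Spec A).functionField a)⁻¹ ∉ j.range := by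
      rintro a ha h0 ⟨b, hb⟩
      refine (mem_maximalIdeal a).1 ha (IsUnit.of_map (algebraMap A B) a (IsUnit.of_mul_eq_one b (hj ?_)))
      rw [map_mul, map_one, hjA, hb, mul_inv_cancel₀ h0]
    obtain ⟨X, z, hlft, hX, hle, hcz, hdom, hd, hrat⟩ := exists_step (R := A) hR hA hU
      ((ringKrullDim_eq_of_ringEquiv eB.symm).trans hdimB) hloc (c := j c) ⟨c, rfl⟩ (by
        rintro ⟨a, ha⟩
        exact hcA ⟨a, hj ((hjA a).trans ha)⟩)
    haveI := hX.noeth
    haveI : IsDomain (X.Z.presheaf.stalk z) := (hX.normal z).1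
    haveI hzn : IsIntegrallyClosed (X.Z.presheaf.stalk z) := (hX.normal z).2
    -- the local ring of the centre inside `B`
    let θ : X.Z.presheaf.stalk z →+* B :=
      (eB.symm : j.range →+* B).comp ((X.toKHom z).hom.codRestrict j.range fun t => hle ⟨t, rfl⟩)
    have hθ : ∀ t, j (θ t) = X.toKHom z t := fun t =>
      congrArg Subtype.val (eB.apply_symm_apply ⟨X.toKHom z t, hle ⟨t, rfl⟩⟩)
    letI : Algebra (X.Z.presheaf.stalk z) B := θ.toAlgebra
    have hθA : ∀ a : A, θ (RatSing.strStalk (R := A) X z a) = algebraMap A B a := fun a =>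
      hj (by rw [hθ, RatSing.toK_strStalk, hjA])
    haveI : IsLocalHom (algebraMap (X.Z.presheaf.stalk z) B) := ⟨fun t ht => by
      obtain ⟨b, hb⟩ := ht.exists_right_inv
      have h1 : X.toKHom z t * j b = 1 := by rw [← hθ, ← map_mul]; erw [hb]; exact map_one j
      obtain ⟨v, hv⟩ := hdom _ ⟨t, rfl⟩ (by rw [← eq_inv_of_mul_eq_one_right h1]; exact ⟨b, rfl⟩)
      refine IsUnit.of_mul_eq_one v (X.toK_injective z ?_)
      change X.toKHom z v = _ at hv
      rw [map_mul, map_one, hv]
      exact mul_inv_cancel₀ (left_ne_zero_of_mul_eq_one h1)⟩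
    have hN' : NormSeq.FinBir (X.Z.presheaf.stalk z) := by
      haveI : LocallyOfFiniteType X.G := hlft
      exact NormSeq.finBir_stalk hN X z
    have hA' : Curv2.IsRationalSing (X.Z.presheaf.stalk z) := by
      let R' := X.Z.presheaf.stalk z
      letI : Algebra R' (Spec A).functionField := (X.toKHom z).hom.toAlgebra
      haveI : FaithfulSMul R' (Spec A).functionField :=
        (faithfulSMul_iff_algebraMap_injective _ _).2 (X.toK_injective z)
      haveI : IsFractionRing R' (Spec A).functionField := by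
        refine IsFractionRing.of_field _ _ fun y => ?_
        obtain ⟨a, a', -, h⟩ := IsFractionRing.div_surjective (A := A) y
        refine ⟨RatSing.strStalk X z a, RatSing.strStalk X z a', ?_⟩
        show y = X.toKHom z _ / X.toKHom z _
        rw [RatSing.toK_strStalk, RatSing.toK_strStalk]
        exact h.symm
      let φ := IsLocalization.algEquiv (nonZeroDivisors R') (Spec A).functionField (Spec R').functionField
      refine isRationalSing_of_ratVal (R := R') (hrat.map φ.toRingEquiv fun x => ?_)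
      constructor
      · rintro ⟨t, rfl⟩
        exact ⟨t, (φ.commutes t).symm⟩
      · rintro ⟨t, ht⟩
        exact ⟨t, φ.injective ((φ.commutes t).trans ht)⟩
    refine ih (X.Z.presheaf.stalk z) B hN' hd hA' (fun t t' h => X.toK_injective z ?_) (fun b => ?_) hdimB
      (s.erase c) (by rw [Finset.card_erase_of_mem hcs]; omega) fun b => ?_
    · rw [← hθ, ← hθ]; exact congrArg j h
    · obtain ⟨a, a', ha', h⟩ := hfrac b
      refine ⟨RatSing.strStalk (R := A) X z a, RatSing.strStalk (R := A) X z a',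
        fun h0 => ha' (hinj ?_), ?_⟩
      · rw [← hθA, h0, map_zero, map_zero]
      · show θ _ * b = θ _
        rw [hθA, hθA, h]
    · have hle' : ∀ x ∈ Algebra.adjoin A (s : Set B),
          x ∈ Algebra.adjoin (X.Z.presheaf.stalk z) ((s.erase c : Finset B) : Set B) := by
        intro x hx
        induction hx using Algebra.adjoin_induction with
        | mem x hx =>
          by_cases hxc : x = c
          · subst hxc
            obtain ⟨t, ht⟩ := hcz
            change X.toKHom z t = _ at ht
            rw [show x = θ t from hj (by rw [hθ, ht])]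
            exact Subalgebra.algebraMap_mem _ t
          · exact Algebra.subset_adjoin (Finset.mem_erase.2 ⟨hxc, hx⟩)
        | algebraMap a => rw [← hθA a]; exact Subalgebra.algebraMap_mem _ _
        | add x y _ _ hx hy => exact add_mem hx hy
        | mul x y _ _ hx hy => exact mul_mem hx hy
      obtain ⟨p, hp, q, hq, h⟩ := hgen b
      exact ⟨p, hle' p hp, q, hle' q hq, h⟩

/-- A birational essentially finite type normal extension of a rational singularity is rational. -/
theorem isRationalSing_ext' (A B : Type u) [CommRing A] [CommRing B] [IsDomain A] [IsDomain B]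
    [IsLocalRing A] [IsLocalRing B] [IsNoetherianRing A] [IsIntegrallyClosed A] (hN : NormSeq.FinBir A)
    (hdimA : ringKrullDim A = 2) (hA : Curv2.IsRationalSing A) [Algebra A B] [IsLocalHom (algebraMap A B)]
    (hinj : Function.Injective (algebraMap A B)) [Algebra.EssFiniteType A B]
    (hfrac : ∀ b : B, ∃ a a' : A, a' ≠ 0 ∧ algebraMap A B a' * b = algebraMap A B a)
    [IsIntegrallyClosed B] (hdimB : ringKrullDim B = 2) : Curv2.IsRationalSing B := by
  obtain ⟨s, hs⟩ := Algebra.EssFiniteType.cond (R := A) (S := B)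
  haveI := hs
  refine isRationalSing_up s.card (CommRingCat.of A) B hN hdimA hA hinj hfrac hdimB s le_rfl fun b => ?_
  obtain ⟨⟨p, q⟩, hpq⟩ := IsLocalization.surj
    ((IsUnit.submonoid B).comap (algebraMap (Algebra.adjoin A (s : Set B)) B)) b
  exact ⟨p.1, p.2, q.1.1, q.1.2, q.2, hpq⟩

/-- The Nagata case. -/
theorem isRationalSing_ext (A B : Type u) [CommRing A] [CommRing B] [IsDomain A] [IsDomain B]
    [IsLocalRing A] [IsLocalRing B] [IsNoetherianRing A] [IsIntegrallyClosed A] (hN : CAlg.IsNagata A)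
    (hdimA : ringKrullDim A = 2) (hA : Curv2.IsRationalSing A) [Algebra A B] [IsLocalHom (algebraMap A B)]
    (hinj : Function.Injective (algebraMap A B)) [Algebra.EssFiniteType A B]
    (hfrac : ∀ b : B, ∃ a a' : A, a' ≠ 0 ∧ algebraMap A B a' * b = algebraMap A B a)
    [IsIntegrallyClosed B] (hdimB : ringKrullDim B = 2) : Curv2.IsRationalSing B := by
  exact isRationalSing_ext' A B (NormSeq.finBir_of_isNagata hN) hdimA hA hinj hfrac hdimB

end Main

end Groth.Agent.RatUp
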